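import Cfsg.Agent.Lib.Known.E6Cubic.Operators

/-!
The checked expansion of the cubic form of type E6 after a root element.
-/

set_option autoImplicit false
set_option maxRecDepth 100000
set_option Elab.async false

namespace CfsgLib.Known.E6Cubic

open Matrix Cfsg.Lie

/-- The moves of a root into a coordinate. -/
def into (r n : ℕ) : List (ℕ × ℤ) :=
  (edges r).filterMap fun e => if e.2.1 = n then some (e.1, sgnB e.2.2) else none

/-- The choices at one place of a monomial. -/
def opts (r n : ℕ) : List (ℕ × ℤ × ℕ) := (n, 1, 0) :: (into r n).map fun q => (q.1, q.2, 1)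

/-- Sort three numbers. -/
def sort3 (a b c : ℕ) : ℕ × ℕ × ℕ :=
  if a ≤ b then (if b ≤ c then (a, b, c) else if a ≤ c then (a, c, b) else (c, a, b))
  else (if a ≤ c then (b, a, c) else if b ≤ c then (b, c, a) else (c, b, a))

/-- The expansion of a monomial after a root element. -/
def expandM (r : ℕ) (m : ℕ × ℕ × ℕ × ℤ) : List ((ℕ × ℕ × ℕ × ℕ) × ℤ) :=
  (opts r m.1).flatMap fun a => (opts r m.2.1).flatMap fun b => (opts r m.2.2.1).map fun c =>
    ((a.2.2 + b.2.2 + c.2.2, sort3 a.1 b.1 c.1), m.2.2.2 * (a.2.1 * b.2.1 * c.2.1))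

/-- The change of the cubic form under a root element, expanded. -/
def diffL (r : ℕ) : List ((ℕ × ℕ × ℕ × ℕ) × ℤ) :=
  mons.flatMap (expandM r) ++ mons.map fun m => ((0, sort3 m.1 m.2.1 m.2.2.1), -m.2.2.2)

/-- The coefficient of a key. -/
def coefK {κ : Type} [DecidableEq κ] (L : List (κ × ℤ)) (k : κ) : ℤ :=
  ((L.filter fun e => e.1 = k).map fun e => e.2).sum

/-- All coefficients vanish. -/
def zeroB {κ : Type} [DecidableEq κ] (L : List (κ × ℤ)) : Bool := L.all fun e => coefK L e.1 == 0

theorem diff_ok : ∀ r : Fin 72, zeroB (diffL r.val) = true := by decide +kernel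

end CfsgLib.Known.E6Cubic
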