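import Cfsg.Agent.Lib.Known.E6Cubic.Roots
import Cfsg.Agent.Lib.Known.E6Cubic.Invariance

/-!
The action of the root elements of type E6 on coordinates: they preserve the cubic form, and the
torus elements are diagonal.
-/

set_option autoImplicit false
set_option maxRecDepth 100000
set_option Elab.async false

namespace CfsgLib.Known.E6Cubic

open Matrix Cfsg.Lie CfsgLib.Chev CfsgLib.Chev.Ortho

universe u v

variable {F : Type v} [Field F]

theorem edge_lt : ∀ r : Fin 72, ((edges r.val).all fun e => decide (e.1 < 27) && decide (e.2.1 < 27)) = true := by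
  decide +kernel

theorem sv_vec {L : List (ℕ × ℕ × ℤ)} (hL : ∀ e ∈ L, e.2.1 < 27) (v : I27 → F) {n : ℕ} (hn : n < 27) :
    cv (sv F (L.map fun e => ((ic e.2.1, ic e.1, 0, 0), e.2.2)) *ᵥ v) n =
      ((L.filterMap fun e => if e.2.1 = n then some (e.1, e.2.2) else none).map
        fun q : ℕ × ℤ => (q.2 : F) * cv v q.1).sum := by
  induction L with
  | nil => simp [sv, sEval_nil, cv]
  | cons e L ih =>
    have hr := ih fun q hq => hL q (List.mem_cons_of_mem _ hq)
    have he := hL e List.mem_cons_self
    rw [List.map_cons, sv, sEval_cons, add_mulVec, ← sv]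
    show (sMono (1 : F) 1 (ic e.2.1, ic e.1, 0, 0) e.2.2 *ᵥ v) (ic n) + _ = _
    rw [show ((sv F (L.map fun e => ((ic e.2.1, ic e.1, 0, 0), e.2.2))) *ᵥ v) (ic n) = _ from hr, sMono,
      single_mulVec, Function.update_apply]
    by_cases h : e.2.1 = n
    · rw [if_pos (congrArg ic h.symm), List.filterMap_cons_some (by rw [if_pos h]), List.map_cons, List.sum_cons]
      simp [cv]
    · rw [if_neg fun e' => h (ic_inj he hn e'.symm), List.filterMap_cons_none (by rw [if_neg h]), Pi.zero_apply, zero_add]

theorem op_vec {r : ℕ} (hr : r < 72) (v : I27 → F) {n : ℕ} (hn : n < 27) :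
    cv (op F r *ᵥ v) n = ((into r n).map fun q => (q.2 : F) * cv v q.1).sum := by
  have h := sv_vec (F := F) (L := (edges r).map fun e => (e.1, e.2.1, sgnB e.2.2)) (fun e he => by
    obtain ⟨e', he', rfl⟩ := List.mem_map.1 he
    simpa using ((Bool.and_eq_true _ _).mp (List.all_eq_true.1 (edge_lt ⟨r, hr⟩) e' he')).2) v hn
  rw [List.map_map, List.filterMap_map] at h
  rw [op, opS]
  exact h

theorem xG_vec {r : ℕ} (hr : r < 72) (t : F) (v : I27 → F) {n : ℕ} (hn : n < 27) :
    cv (act (xG r t) v) n = cv v n + t * ((into r n).map fun q => (q.2 : F) * cv v q.1).sum := by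
  rw [act, xG_val hr, xM, add_mulVec, one_mulVec, smul_mulVec, ← op_vec hr v hn]
  rfl

theorem sum_zero_of_zeroB {κ : Type} [DecidableEq κ] (f : κ → F) {L : List (κ × ℤ)} (h : zeroB L = true) :
    (L.map fun e => (e.2 : F) * f e.1).sum = 0 := by
  classical
  have h1 : ∀ M : List (κ × ℤ), ∀ S : Finset κ, (∀ e ∈ M, e.1 ∈ S) →
      (M.map fun e => (e.2 : F) * f e.1).sum = ∑ k ∈ S, (coefK M k : F) * f k := by
    intro M S
    induction M with
    | nil => simp [coefK]
    | cons e M ih =>
      intro hS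
      have hc : ∀ k, coefK (e :: M) k = (if e.1 = k then e.2 else 0) + coefK M k := fun k => by
        by_cases hk : e.1 = k <;> simp [coefK, hk]
      rw [List.map_cons, List.sum_cons, ih fun q hq => hS q (List.mem_cons_of_mem _ hq)]
      simp only [hc, Int.cast_add, add_mul, Finset.sum_add_distrib]
      congr 1
      rw [Finset.sum_eq_single e.1 (fun k _ hk => by simp [Ne.symm hk])
        fun hn => absurd (hS e List.mem_cons_self) hn, if_pos rfl]
  rw [h1 L (L.map fun e => e.1).toFinset fun e he => List.mem_toFinset.2 (List.mem_map_of_mem he)]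
  refine Finset.sum_eq_zero fun k hk => ?_
  obtain ⟨e, he, rfl⟩ := List.mem_map.1 (List.mem_toFinset.1 hk)
  rw [eq_of_beq (List.all_eq_true.1 h e he), Int.cast_zero, zero_mul]

theorem flat_sum {α β : Type*} (k : α → List β) (h : β → F) : ∀ A : List α,
    ((A.flatMap k).map h).sum = (A.map fun a => ((k a).map h).sum).sum
  | [] => by simp
  | a :: A => by
    rw [List.flatMap_cons, List.map_append, List.sum_append, flat_sum k h A, List.map_cons, List.sum_cons]

theorem sort3_prod (v : I27 → F) (a b c : ℕ) :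
    cv v (sort3 a b c).1 * cv v (sort3 a b c).2.1 * cv v (sort3 a b c).2.2 = cv v a * cv v b * cv v c := by
  rw [sort3]
  split_ifs <;> ring

theorem xG_mem {r : ℕ} (hr : r < 72) (t : F) : xG r t ∈ E6univ F := by
  intro v
  show cubicT (act (xG r t) v) = cubicT v
  set f : ℕ × ℕ × ℕ × ℕ → F := fun k => t ^ k.1 * (cv v k.2.1 * cv v k.2.2.1 * cv v k.2.2.2) with hf
  have hv : ∀ n < 27, cv (act (xG r t) v) n =
      ((opts r n).map fun a => (a.2.1 : F) * t ^ a.2.2 * cv v a.1).sum := fun n hn => by
    rw [xG_vec hr t v hn, opts, List.map_cons, List.sum_cons, List.map_map, ← List.sum_map_mul_left]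
    congr 1
    · simp
    · refine congrArg List.sum (List.map_congr_left fun q _ => ?_)
      simp only [Function.comp_apply, pow_one]
      ring
  have h := sum_zero_of_zeroB f (diff_ok ⟨r, hr⟩)
  rw [diffL, List.map_append, List.sum_append, List.map_map] at h
  have e1 : ∀ L : List (ℕ × ℕ × ℕ × ℤ), (∀ m ∈ L, m.1 < 27 ∧ m.2.1 < 27 ∧ m.2.2.1 < 27) →
      ((L.flatMap (expandM r)).map fun e => (e.2 : F) * f e.1).sum =
        (L.map (mval (act (xG r t) v))).sum := by
    intro L hL
    induction L with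
    | nil => simp
    | cons m L ih =>
      obtain ⟨h1, h2, h3⟩ := hL m List.mem_cons_self
      rw [List.flatMap_cons, List.map_append, List.sum_append, ih fun q hq => hL q (List.mem_cons_of_mem _ hq),
        List.map_cons, List.sum_cons]
      congr 1
      rw [mval, hv _ h1, hv _ h2, hv _ h3]
      have prod3 : ∀ A B C : List (ℕ × ℤ × ℕ),
          ((A.flatMap fun a => B.flatMap fun b => C.map fun c =>
            (((a.2.2 + b.2.2 + c.2.2, sort3 a.1 b.1 c.1) : ℕ × ℕ × ℕ × ℕ),
              m.2.2.2 * (a.2.1 * b.2.1 * c.2.1))).map fun e => (e.2 : F) * f e.1).sum =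
          (m.2.2.2 : F) * ((A.map fun a => (a.2.1 : F) * t ^ a.2.2 * cv v a.1).sum *
            (B.map fun a => (a.2.1 : F) * t ^ a.2.2 * cv v a.1).sum *
            (C.map fun a => (a.2.1 : F) * t ^ a.2.2 * cv v a.1).sum) := by
        intro A B C
        rw [flat_sum, mul_assoc (List.sum (A.map _)), ← List.sum_map_mul_right, ← List.sum_map_mul_left]
        refine congrArg List.sum (List.map_congr_left fun a _ => ?_)
        rw [flat_sum, ← List.sum_map_mul_right, ← List.sum_map_mul_left, ← List.sum_map_mul_left]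
        refine congrArg List.sum (List.map_congr_left fun b _ => ?_)
        rw [List.map_map, ← List.sum_map_mul_left, ← List.sum_map_mul_left, ← List.sum_map_mul_left]
        refine congrArg List.sum (List.map_congr_left fun c _ => ?_)
        simp only [Function.comp_apply, hf, sort3_prod, pow_add, Int.cast_mul]
        ring
      exact prod3 _ _ _
  rw [e1 mons fun m hm => ⟨(mons_ok m hm).1, (mons_ok m hm).2.1, (mons_ok m hm).2.2.1⟩] at h
  have e2 : (mons.map ((fun e : (ℕ × ℕ × ℕ × ℕ) × ℤ => (e.2 : F) * f e.1) ∘ fun m =>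
      (((0, sort3 m.1 m.2.1 m.2.2.1) : ℕ × ℕ × ℕ × ℕ), (-m.2.2.2 : ℤ)))).sum = -(mons.map (mval v)).sum := by
    rw [List.sum_neg, List.map_map]
    refine congrArg List.sum (List.map_congr_left fun m _ => ?_)
    simp only [Function.comp_apply, hf, pow_zero, one_mul, sort3_prod, mval, Int.cast_neg, neg_mul]
  rw [e2, ← sub_eq_add_neg, sub_eq_zero] at h
  rw [cubicT_eq, cubicT_eq, h]

/-- The number of moves of a root into a coordinate. -/
def hits (r n : ℕ) : ℕ := ((edges r).filter fun e => e.2.1 = n).length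

theorem hits_ok : ∀ i : Fin 6, ∀ n : Fin 27,
    hits (chevE6.simple i.val) n.val + hits (chevE6.neg (chevE6.simple i.val)) n.val ≤ 1 ∧
      chevE6.simple i.val < 72 := by decide +kernel

theorem block_vec {r : ℕ} (hr : r < 72) (v : I27 → F) {n : ℕ} (hn : n < 27) :
    cv ((op F r * op F (chevE6.neg r)) *ᵥ v) n = (hits r n : F) * cv v n := by
  have h := (pairs_ok ⟨r, hr⟩).1
  simp only [pairB, Bool.and_eq_true] at h
  have h' := sv_vec (F := F) (L := (edges r).map fun e => (e.2.1, e.2.1, (1 : ℤ))) (fun e he => by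
    obtain ⟨e', he', rfl⟩ := List.mem_map.1 he
    simpa using ((Bool.and_eq_true _ _).mp (List.all_eq_true.1 (edge_lt ⟨r, hr⟩) e' he')).2) v hn
  rw [List.map_map, List.filterMap_map] at h'
  rw [op, op, ← sv_mul, sv_eq h.2]
  refine h'.trans ?_
  rw [hits]
  induction edges r with
  | nil => simp
  | cons e L ih =>
    by_cases he : e.2.1 = n
    · rw [List.filterMap_cons_some (b := (n, (1 : ℤ))) (by simp [he]), List.map_cons, List.sum_cons, ih,
        List.filter_cons_of_pos (by simpa using he), List.length_cons, Nat.cast_succ, Int.cast_one, one_mul,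
        add_mul, one_mul, add_comm]
    · rw [List.filterMap_cons_none (by simp [he]), ih, List.filter_cons_of_neg (by simpa using he)]

/-- The exponent of a fundamental torus element at a coordinate. -/
def expo (i n : ℕ) : ℤ := (hits (chevE6.simple i) n : ℤ) - hits (chevE6.neg (chevE6.simple i)) n

theorem hG_vec {i : ℕ} (hi : i < 6) {t : F} (ht : t ≠ 0) (v : I27 → F) {n : ℕ} (hn : n < 27) :
    cv (act (hG (chevE6.simple i) t) v) n = t ^ expo i n * cv v n := by
  obtain ⟨hh, hr⟩ := hits_ok ⟨i, hi⟩ ⟨n, hn⟩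
  obtain ⟨-, h1, h2⟩ := pairs_ok ⟨_, hr⟩
  simp only at hh hr h1 h2
  have b1 := block_vec hr v hn
  have b2 := block_vec h2 v hn
  rw [h1] at b2
  rw [act, hG_val hr ht, add_mulVec, add_mulVec, one_mulVec, smul_mulVec, smul_mulVec, expo]
  simp only [cv, Pi.add_apply, Pi.smul_apply, smul_eq_mul] at b1 b2 ⊢
  rw [b1, b2]
  rcases Nat.lt_or_ge 0 (hits (chevE6.simple i) n) with ha | ha
  · rw [show hits (chevE6.simple i) n = 1 by omega, show hits (chevE6.neg (chevE6.simple i)) n = 0 by omega]
    simp
    ring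
  · rw [show hits (chevE6.simple i) n = 0 by omega]
    rcases Nat.lt_or_ge 0 (hits (chevE6.neg (chevE6.simple i)) n) with hb | hb
    · rw [show hits (chevE6.neg (chevE6.simple i)) n = 1 by omega]
      simp
      ring
    · rw [show hits (chevE6.neg (chevE6.simple i)) n = 0 by omega]
      simp

theorem hG_mem {r : ℕ} (hr : r < 72) (t : F) : hG r t ∈ E6univ F := by
  have hn := (pairs_ok ⟨r, hr⟩).2.2
  exact Subgroup.mul_mem _ (Subgroup.mul_mem _ (Subgroup.mul_mem _ (xG_mem hr _) (xG_mem hn _)) (xG_mem hr _))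
    (Subgroup.mul_mem _ (Subgroup.mul_mem _ (xG_mem hr _) (xG_mem hn _)) (xG_mem hr _))

end CfsgLib.Known.E6Cubic
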