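import Mathlib

/-!
Tables for the group of the cubic form of type E6: monomials, root operators and elimination steps.
-/

set_option maxRecDepth 100000

namespace CfsgLib.Known.E6Cubic

/-- The monomials with their signs. -/
def mons : List (ℕ × ℕ × ℕ × ℤ) := [
    (0, 4, 8, 1), (0, 5, 7, -1), (1, 3, 8, -1), (1, 5, 6, 1), (2, 3, 7, 1), (2, 4, 6, -1),
    (9, 13, 17, 1), (9, 14, 16, -1), (10, 12, 17, -1), (10, 14, 15, 1), (11, 12, 16, 1), (11, 13, 15, -1),
    (18, 22, 26, 1), (18, 23, 25, -1), (19, 21, 26, -1), (19, 23, 24, 1), (20, 21, 25, 1), (20, 22, 24, -1),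
    (0, 9, 18, -1), (0, 10, 21, -1), (0, 11, 24, -1), (1, 12, 18, -1), (1, 13, 21, -1), (1, 14, 24, -1),
    (2, 15, 18, -1), (2, 16, 21, -1), (2, 17, 24, -1), (3, 9, 19, -1), (3, 10, 22, -1), (3, 11, 25, -1),
    (4, 12, 19, -1), (4, 13, 22, -1), (4, 14, 25, -1), (5, 15, 19, -1), (5, 16, 22, -1), (5, 17, 25, -1),
    (6, 9, 20, -1), (6, 10, 23, -1), (6, 11, 26, -1), (7, 12, 20, -1), (7, 13, 23, -1), (7, 14, 26, -1),
    (8, 15, 20, -1), (8, 16, 23, -1), (8, 17, 26, -1)]

/-- The moves of the root operators: source, target, negative sign. -/
def edgeTab : List (List (ℕ × ℕ × Bool)) := [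
    [(10, 11, true), (13, 14, true), (16, 17, true), (24, 21, false), (25, 22, false), (26, 23, false)],
    [(3, 23, false), (6, 22, true), (13, 2, false), (16, 1, true), (18, 11, true), (24, 9, false)],
    [(0, 22, true), (3, 21, false), (13, 8, true), (16, 7, false), (20, 11, false), (26, 9, true)],
    [(3, 17, true), (5, 11, false), (12, 22, false), (13, 19, true), (24, 7, true), (26, 1, false)],
    [(3, 14, true), (4, 11, false), (15, 22, true), (16, 19, false), (24, 8, false), (26, 2, true)],
    [(0, 23, true), (6, 21, false), (13, 5, false), (16, 4, true), (19, 11, true), (25, 9, false)],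
    [(6, 17, true), (8, 11, false), (12, 23, false), (13, 20, true), (24, 4, false), (25, 1, true)],
    [(6, 14, true), (7, 11, false), (15, 23, true), (16, 20, false), (24, 5, true), (25, 2, false)],
    [(0, 17, true), (2, 11, false), (12, 21, false), (13, 18, true), (25, 7, false), (26, 4, true)],
    [(0, 14, true), (1, 11, false), (15, 21, true), (16, 18, false), (25, 8, true), (26, 5, false)],
    [(9, 11, false), (12, 14, false), (15, 17, false), (24, 18, true), (25, 19, true), (26, 20, true)],
    [(0, 1, true), (3, 4, true), (6, 7, true), (12, 9, false), (13, 10, false), (14, 11, false)],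
    [(0, 2, false), (3, 5, false), (6, 8, false), (15, 9, true), (16, 10, true), (17, 11, true)],
    [(3, 20, true), (6, 19, false), (12, 2, true), (15, 1, false), (21, 11, true), (24, 10, false)],
    [(0, 19, false), (3, 18, true), (12, 8, false), (15, 7, true), (23, 11, false), (26, 10, true)],
    [(0, 20, false), (6, 18, true), (12, 5, true), (15, 4, false), (22, 11, true), (25, 10, false)],
    [(10, 9, true), (13, 12, true), (16, 15, true), (18, 21, false), (19, 22, false), (20, 23, false)],
    [(5, 23, false), (8, 22, true), (10, 1, false), (13, 0, true), (18, 17, true), (24, 15, false)],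
    [(4, 23, false), (7, 22, true), (10, 2, true), (16, 0, false), (18, 14, true), (24, 12, false)],
    [(2, 22, true), (5, 21, false), (10, 7, true), (13, 6, false), (20, 17, false), (26, 15, true)],
    [(1, 22, true), (4, 21, false), (10, 8, false), (16, 6, true), (20, 14, false), (26, 12, true)],
    [(4, 17, true), (5, 14, false), (9, 22, true), (10, 19, false), (24, 6, false), (26, 0, true)],
    [(2, 23, true), (8, 21, false), (10, 4, false), (13, 3, true), (19, 17, true), (25, 15, false)],
    [(1, 23, true), (7, 21, false), (10, 5, true), (16, 3, false), (19, 14, true), (25, 12, false)],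
    [(7, 17, true), (8, 14, false), (9, 23, true), (10, 20, false), (24, 3, true), (25, 0, false)],
    [(1, 17, true), (2, 14, false), (9, 21, true), (10, 18, false), (25, 6, true), (26, 3, false)],
    [(3, 15, true), (5, 9, false), (13, 25, false), (14, 22, true), (18, 7, true), (20, 1, false)],
    [(3, 12, true), (4, 9, false), (16, 25, true), (17, 22, false), (18, 8, false), (20, 2, true)],
    [(3, 0, true), (4, 1, true), (5, 2, true), (18, 19, false), (21, 22, false), (24, 25, false)],
    [(3, 6, false), (4, 7, false), (5, 8, false), (20, 19, true), (23, 22, true), (26, 25, true)],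
    [(6, 15, false), (8, 9, true), (13, 26, true), (14, 23, false), (18, 4, true), (19, 1, false)],
    [(6, 12, false), (7, 9, true), (16, 26, false), (17, 23, true), (18, 5, false), (19, 2, true)],
    [(6, 0, false), (7, 1, false), (8, 2, false), (18, 20, true), (21, 23, true), (24, 26, true)],
    [(0, 15, true), (2, 9, false), (13, 24, false), (14, 21, true), (19, 7, false), (20, 4, true)],
    [(0, 12, true), (1, 9, false), (16, 24, true), (17, 21, false), (19, 8, true), (20, 5, false)],
    [(2, 1, false), (5, 4, false), (8, 7, false), (12, 15, true), (13, 16, true), (14, 17, true)],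
    [(1, 2, false), (4, 5, false), (7, 8, false), (15, 12, true), (16, 13, true), (17, 14, true)],
    [(5, 20, false), (8, 19, true), (9, 1, false), (12, 0, true), (21, 17, false), (24, 16, true)],
    [(4, 20, true), (7, 19, false), (9, 2, false), (15, 0, true), (21, 14, true), (24, 13, false)],
    [(0, 6, false), (1, 7, false), (2, 8, false), (20, 18, true), (23, 21, true), (26, 24, true)],
    [(2, 19, true), (5, 18, false), (9, 7, true), (12, 6, false), (23, 17, true), (26, 16, false)],
    [(1, 19, false), (4, 18, true), (9, 8, true), (15, 6, false), (23, 14, false), (26, 13, true)],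
    [(6, 3, false), (7, 4, false), (8, 5, false), (19, 20, true), (22, 23, true), (25, 26, true)],
    [(0, 3, true), (1, 4, true), (2, 5, true), (19, 18, false), (22, 21, false), (25, 24, false)],
    [(2, 20, true), (8, 18, false), (9, 4, false), (12, 3, true), (22, 17, false), (25, 16, true)],
    [(1, 20, false), (7, 18, true), (9, 5, false), (15, 3, true), (22, 14, true), (25, 13, false)],
    [(3, 26, false), (6, 25, true), (14, 2, false), (17, 1, true), (18, 10, false), (21, 9, true)],
    [(0, 25, false), (3, 24, true), (14, 8, false), (17, 7, true), (20, 10, false), (23, 9, true)],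
    [(3, 16, false), (5, 10, true), (12, 25, false), (14, 19, true), (21, 7, false), (23, 1, true)],
    [(3, 13, true), (4, 10, false), (15, 25, false), (17, 19, true), (21, 8, false), (23, 2, true)],
    [(0, 26, true), (6, 24, false), (14, 5, false), (17, 4, true), (19, 10, false), (22, 9, true)],
    [(6, 16, true), (8, 10, false), (12, 26, true), (14, 20, false), (21, 4, false), (22, 1, true)],
    [(6, 13, false), (7, 10, true), (15, 26, true), (17, 20, false), (21, 5, false), (22, 2, true)],
    [(0, 16, false), (2, 10, true), (12, 24, false), (14, 18, true), (22, 7, true), (23, 4, false)],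
    [(0, 13, true), (1, 10, false), (15, 24, false), (17, 18, true), (22, 8, true), (23, 5, false)],
    [(9, 10, true), (12, 13, true), (15, 16, true), (21, 18, false), (22, 19, false), (23, 20, false)],
    [(4, 15, false), (5, 12, true), (10, 25, false), (11, 22, true), (18, 6, true), (20, 0, false)],
    [(7, 15, true), (8, 12, false), (10, 26, true), (11, 23, false), (18, 3, true), (19, 0, false)],
    [(1, 15, false), (2, 12, true), (10, 24, false), (11, 21, true), (19, 6, false), (20, 3, true)],
    [(2, 0, false), (5, 3, false), (8, 6, false), (9, 15, true), (10, 16, true), (11, 17, true)],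
    [(1, 0, true), (4, 3, true), (7, 6, true), (9, 12, false), (10, 13, false), (11, 14, false)],
    [(11, 9, false), (14, 12, false), (17, 15, false), (18, 24, true), (19, 25, true), (20, 26, true)],
    [(5, 26, false), (8, 25, true), (11, 1, false), (14, 0, true), (18, 16, false), (21, 15, true)],
    [(4, 26, true), (7, 25, false), (11, 2, false), (17, 0, true), (18, 13, true), (21, 12, false)],
    [(2, 25, false), (5, 24, true), (11, 7, false), (14, 6, true), (20, 16, false), (23, 15, true)],
    [(1, 25, true), (4, 24, false), (11, 8, false), (17, 6, true), (20, 13, true), (23, 12, false)],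
    [(4, 16, true), (5, 13, false), (9, 25, false), (11, 19, true), (21, 6, false), (23, 0, true)],
    [(2, 26, true), (8, 24, false), (11, 4, false), (14, 3, true), (19, 16, false), (22, 15, true)],
    [(1, 26, false), (7, 24, true), (11, 5, false), (17, 3, true), (19, 13, true), (22, 12, false)],
    [(7, 16, false), (8, 13, true), (9, 26, true), (11, 20, false), (21, 3, false), (22, 0, true)],
    [(1, 16, true), (2, 13, false), (9, 24, false), (11, 18, true), (22, 6, true), (23, 3, false)],
    [(11, 10, true), (14, 13, true), (17, 16, true), (21, 24, false), (22, 25, false), (23, 26, false)]]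

/-- Six coordinates determining a torus element. -/
def six : List ℕ := [
    4, 18, 24, 2, 8, 3]

/-- The inverse of their table of exponents. -/
def sixInv : List (List ℤ) := [
    [-1, 0, 1, 0, -1, 0],
    [-1, 1, 2, 1, -2, -1],
    [-1, 1, 2, 1, -2, 0],
    [-2, 2, 3, 1, -3, -1],
    [-2, 2, 2, 1, -3, -1],
    [-1, 1, 1, 1, -1, 0]]

/-- The determination of the other coordinates. -/
def prop : List (ℕ × ℕ × ℕ) := [
    (4, 8, 0), (3, 8, 1), (2, 3, 7), (2, 4, 6), (18, 0, 9), (24, 0, 11),
    (18, 1, 12), (24, 1, 14), (18, 2, 15), (24, 2, 17), (3, 9, 19), (3, 11, 25),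
    (15, 19, 5), (6, 9, 20), (6, 11, 26), (17, 9, 13), (9, 14, 16), (12, 17, 10),
    (26, 18, 22), (25, 18, 23), (26, 19, 21)]

end CfsgLib.Known.E6Cubic
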