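import Cfsg.Agent.Lib.Known.E6Cubic.Action

/-!
Reduction of an isometry of the cubic form to a diagonal one by root elements, from checked steps.
-/

set_option autoImplicit false
set_option maxRecDepth 100000
set_option Elab.async false

namespace CfsgLib.Known.E6Cubic

open Matrix Cfsg.Lie

universe u v

/-- How a nonzero coordinate is known. -/
inductive Piv
  | all
  | far (a : ℕ)
  | third (a b : ℕ)

/-- One elimination step. -/
structure Step where
  w : ℕ
  kind : Piv
  path : List (ℕ × ℕ × ℕ)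
  order : List (ℕ × ℕ)

/-- The steps. -/
def steps : List Step := [
    ⟨0, .all, [(13, 17, 0), (16, 18, 0), (26, 21, 0), (25, 24, 0), (3, 28, 0), (6, 32, 0), (12, 37, 0), (15, 38, 0), (20, 56, 0), (19, 57, 0), (2, 59, 0), (1, 60, 0), (14, 62, 0), (17, 63, 0), (23, 66, 0), (22, 69, 0), (24, 38, 13), (10, 60, 13), (18, 63, 13), (5, 66, 13), (8, 69, 13), (4, 66, 16), (7, 69, 16), (9, 69, 26), (21, 69, 3), (11, 69, 20)], [(11, 1), (12, 2), (43, 3), (39, 6), (34, 12), (54, 13), (9, 14), (33, 15), (53, 16), (8, 17), (14, 19), (15, 20), (2, 22), (5, 23), (47, 25), (50, 26)]⟩,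
    ⟨4, .far 0, [(24, 6, 4), (10, 22, 4), (18, 30, 4), (5, 35, 4), (7, 42, 4), (9, 44, 4), (21, 51, 4), (11, 67, 4), (8, 67, 24)], [(28, 1), (60, 3), (36, 5), (29, 7), (27, 9), (49, 10), (4, 11), (56, 15), (66, 16), (21, 17), (41, 18), (38, 20), (20, 21), (18, 23), (65, 24), (63, 26)]⟩,
    ⟨1, .all, [(16, 1, 1), (26, 3, 1), (15, 13, 1), (20, 26, 1), (17, 46, 1), (23, 48, 1), (3, 48, 16)], [(58, 15), (70, 16), (25, 17), (45, 20), (23, 23), (68, 26)]⟩,
    ⟨3, .far 1, [], [(26, 15), (48, 16), (3, 17), (13, 20), (1, 23), (46, 26)]⟩,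
    ⟨15, .all, [(16, 16, 15), (26, 19, 15), (17, 61, 15), (23, 64, 15), (20, 64, 16)], [(55, 16), (10, 17), (7, 23), (52, 26)]⟩,
    ⟨20, .far 15, [], [(64, 16), (19, 17), (16, 23), (61, 26)]⟩,
    ⟨16, .all, [(26, 40, 16), (17, 71, 16), (23, 71, 26)], [(0, 17), (31, 26)]⟩,
    ⟨23, .far 16, [], [(40, 17), (71, 26)]⟩,
    ⟨8, .third 23 16, [], [(32, 2), (42, 5), (59, 6), (35, 7), (30, 9), (51, 10), (6, 11), (57, 12), (69, 13), (24, 14), (44, 18), (37, 19), (22, 21), (17, 22), (67, 24), (62, 25)]⟩,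
    ⟨2, .all, [], []⟩,
    ⟨5, .all, [], []⟩,
    ⟨6, .third 5 1, [], []⟩,
    ⟨7, .third 5 0, [], []⟩,
    ⟨9, .third 6 20, [], []⟩,
    ⟨10, .third 6 23, [], []⟩,
    ⟨11, .all, [], []⟩,
    ⟨12, .third 11 16, [], []⟩,
    ⟨13, .third 11 15, [], []⟩,
    ⟨14, .third 10 15, [], []⟩,
    ⟨17, .third 13 9, [], []⟩,
    ⟨18, .third 12 1, [], []⟩,
    ⟨19, .third 12 4, [], []⟩,
    ⟨21, .third 13 1, [], []⟩,
    ⟨22, .third 13 4, [], []⟩,
    ⟨24, .third 22 20, [], []⟩,
    ⟨25, .third 21 20, [], []⟩,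
    ⟨26, .third 22 18, [], []⟩]

/-- The coordinates known to vanish. -/
def zeroL (S : List ℕ) (w : ℕ) : List ℕ :=
  (S.flatMap fun a => if (farL a).contains w then [] else farL a) ++
    (S.flatMap fun a => S.flatMap fun b => match lnk a b with
      | [(c, _)] => if c == w then [] else [c]
      | _ => [])

/-- The root moves nothing out of the given coordinates. -/
def killsB (S : List ℕ) (r : ℕ) : Bool := decide (r < 72) && (edges r).all fun e => !S.contains e.1

/-- A sign. -/
def isSign (s : ℤ) : Bool := s == 1 || s == -1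

/-- The test of a path towards the pivot. -/
def pathB (S : List ℕ) : List ℕ → List (ℕ × ℕ × ℕ) → Bool
  | _, [] => true
  | R, (c, r, d) :: L => killsB S r && R.contains d && decide (d < 27) &&
      (match into r d with
        | [(c', s)] => c' == c && isSign s
        | _ => false) && pathB S (c :: R) L

/-- The test of the clearing. -/
def orderB (S : List ℕ) (w : ℕ) : List ℕ → List (ℕ × ℕ) → Bool
  | _, [] => true
  | Z, (r, d) :: L => killsB S r && decide (d < 27) &&
      (match into r d with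
        | [(c, s)] => c == w && isSign s
        | _ => false) &&
      ((edges r).all fun e => e.2.1 != w && (!Z.contains e.2.1 || Z.contains e.1)) && orderB S w (d :: Z) L

/-- The coordinates cleared. -/
def clearedL (Z : List ℕ) (L : List (ℕ × ℕ)) : List ℕ := L.foldl (fun Z p => p.2 :: Z) Z

/-- The test of the remaining coordinates. -/
def singB (w : ℕ) (Z : List ℕ) : Bool :=
  (List.range 27).all fun n => n == w || Z.contains n ||
    match lnk w n with
    | [(c, _)] => decide (c < 27) &&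
        (match (ql c).filter fun q => !(Z.contains q.1 || Z.contains q.2.1) with
          | [(a, b, s)] => ((a == w && b == n) || (a == n && b == w)) && isSign s
          | _ => false)
    | _ => false

/-- The test of the pivot. -/
def pivB (S : List ℕ) (w : ℕ) (Z R : List ℕ) : Piv → Bool
  | .all => (List.range 27).all fun c => Z.contains c || R.contains c
  | .far a => S.contains a && (farL a).contains w && (farL a).all fun c => Z.contains c || R.contains c
  | .third a b => S.contains a && S.contains b &&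
      match lnk a b with
      | [(c, _)] => c == w
      | _ => false

/-- The test of a step. -/
def stepB (S : List ℕ) (s : Step) : Bool :=
  decide (s.w < 27) && !S.contains s.w && pathB S [s.w] s.path &&
    pivB S s.w (zeroL S s.w) (s.w :: s.path.map Prod.fst) s.kind &&
    orderB S s.w (zeroL S s.w) s.order && singB s.w (clearedL (zeroL S s.w) s.order)

/-- The test of all steps. -/
def stepsB : List ℕ → List Step → Bool
  | S, [] => (List.range 27).all fun n => S.contains n
  | S, s :: L => stepB S s && stepsB (s.w :: S) L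

theorem steps_ok : stepsB [] steps = true := by decide +kernel

theorem link_ok : ∀ p ∈ pl, lnk p.1 p.2.2.1 = [(p.2.1, p.2.2.2)] ∧ isSign p.2.2.2 = true := by decide +kernel

theorem sign_ne {F : Type v} [Field F] {s : ℤ} (h : isSign s = true) : (s : F) ≠ 0 ∧ (s : F) * s = 1 := by
  simp only [isSign, Bool.or_eq_true, beq_iff_eq] at h
  rcases h with rfl | rfl <;> simp

variable {F : Type v} [Field F]

/-- The given coordinate lines are fixed. -/
def Fx (g : GL I27 F) (S : List ℕ) : Prop := ∀ a ∈ S, ∃ l : F, act g (eb F a) = l • eb F a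

theorem B3_smul (l : F) (x y z : I27 → F) : B3 (l • x) y z = l * B3 x y z := by
  rw [B3_eq, B3_eq, ← List.sum_map_mul_left]
  refine congrArg List.sum (List.map_congr_left fun p _ => ?_)
  simp only [tri, cv, Pi.smul_apply, smul_eq_mul]
  ring

theorem farL_lt {a c : ℕ} (hc : c ∈ farL a) : c < 27 := by
  obtain ⟨p, hp, e⟩ := List.mem_filterMap.1 hc
  split_ifs at e
  · rw [← Option.some.inj e]
    exact (pl_lt p hp).2.1

theorem lnk_mem {a b c : ℕ} {s : ℤ} (h : (c, s) ∈ lnk a b) :
    ∃ p ∈ pl, p.1 = a ∧ p.2.1 = b ∧ p.2.2.1 = c ∧ p.2.2.2 = s := by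
  obtain ⟨p, hp, e⟩ := List.mem_filterMap.1 h
  split_ifs at e with hab
  · have e' := Option.some.inj e
    exact ⟨p, hp, hab.1, hab.2, congrArg Prod.fst e', congrArg Prod.snd e'⟩

theorem farL_lnk {a c : ℕ} (hc : c ∈ farL a) :
    ∃ d s, d < 27 ∧ lnk a d = [(c, s)] ∧ isSign s = true := by
  obtain ⟨p, hp, e⟩ := List.mem_filterMap.1 hc
  split_ifs at e with hab
  · obtain ⟨h1, h2⟩ := link_ok p hp
    rw [hab, Option.some.inj e] at h1
    exact ⟨p.2.2.1, p.2.2.2, (pl_lt p hp).2.2, h1, h2⟩

theorem Fx.scalar {g : GL I27 F} {S : List ℕ} (h : Fx g S) {a : ℕ} (ha : a ∈ S) (h27 : a < 27) :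
    ∃ l : F, l ≠ 0 ∧ act g (eb F a) = l • eb F a := by
  obtain ⟨l, hl⟩ := h a ha
  refine ⟨l, fun e => act_eb_ne g h27 ?_, hl⟩
  rw [hl, e, zero_smul]

theorem zero_of_far {g : GL I27 F} (hg : g ∈ E6univ F) {S : List ℕ} (hS : Fx g S) {a w c : ℕ}
    (ha : a ∈ S) (ha27 : a < 27) (hw : w < 27) (hwa : w ∉ farL a) (hc : c ∈ farL a) :
    cv (act g (eb F w)) c = 0 := by
  obtain ⟨d, s, hd, hl, hs⟩ := farL_lnk hc
  obtain ⟨l, hl0, hla⟩ := hS.scalar ha ha27
  have e : B3 (act g (eb F a)) (act g (eb F w)) (act g (act g⁻¹ (eb F d))) = 0 := by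
    rw [act_B3 hg]
    refine B3_one ha27 _ _ fun n hn => ?_
    rw [cv_eb hw (farL_lt hn), if_neg fun (e : n = w) => hwa (e ▸ hn)]
  rw [act_inv, hla, B3_smul, B3_comm, B3_two ha27 hd, hl] at e
  simpa [hl0, (sign_ne (F := F) hs).1] using e

theorem third_eval {g : GL I27 F} (hg : g ∈ E6univ F) {S : List ℕ} (hS : Fx g S) {a b c w : ℕ} {s : ℤ}
    (ha : a ∈ S) (hb : b ∈ S) (hl : lnk a b = [(c, s)]) (hw : w < 27) :
    (cv (act g (eb F w)) c = 0 ↔ c ≠ w) := by
  obtain ⟨p, hp, e1, e2, e3, e4⟩ := lnk_mem (hl ▸ List.mem_singleton_self (c, s) : (c, s) ∈ lnk a b)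
  obtain ⟨h1, h2, h3⟩ := pl_lt p hp
  rw [e1] at h1; rw [e2] at h2; rw [e3] at h3
  have hs : isSign s = true := e4 ▸ (link_ok p hp).2
  obtain ⟨l, hl0, hla⟩ := hS.scalar ha h1
  obtain ⟨m, hm0, hmb⟩ := hS.scalar hb h2
  have e' : B3 (eb F a) (m • eb F b) (act g (eb F w)) = m * B3 (eb F a) (eb F b) (act g (eb F w)) := by
    rw [B3_eq, B3_eq, ← List.sum_map_mul_left]
    refine congrArg List.sum (List.map_congr_left fun q _ => ?_)
    simp only [tri, cv, Pi.smul_apply, smul_eq_mul]
    ring
  have e0 := act_B3 hg (eb F a) (eb F b) (eb F w)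
  rw [hla, hmb, B3_smul, e', B3_two h1 h2, B3_two h1 h2, hl] at e0
  simp only [List.map_cons, List.map_nil, List.sum_cons, List.sum_nil, add_zero, cv_eb hw h3] at e0
  have hs0 := (sign_ne (F := F) hs).1
  constructor
  · intro hz hcw
    rw [hz, if_pos hcw] at e0
    simp at e0
    exact hs0 e0.symm
  · intro hcw
    rw [if_neg hcw, mul_zero] at e0
    simpa [hl0, hm0, hs0] using e0

theorem zeroL_spec {g : GL I27 F} (hg : g ∈ E6univ F) {S : List ℕ} (hS : Fx g S)
    (hS27 : ∀ a ∈ S, a < 27) {w : ℕ} (hw : w < 27) {c : ℕ} (hc : c ∈ zeroL S w) :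
    cv (act g (eb F w)) c = 0 := by
  rw [zeroL, List.mem_append, List.mem_flatMap, List.mem_flatMap] at hc
  rcases hc with ⟨a, ha, hc⟩ | ⟨a, ha, hc⟩
  · split_ifs at hc with h
    · simp at hc
    · exact zero_of_far hg hS ha (hS27 a ha) hw (by simpa using h) hc
  · obtain ⟨b, hb, hc⟩ := List.mem_flatMap.1 hc
    split at hc
    · next c' s e =>
      split_ifs at hc with h
      · simp at hc
      · rw [List.mem_singleton.1 hc]
        exact (third_eval hg hS ha hb e hw).2 (by simpa using h)
    · simp at hc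

theorem xG_kill {S : List ℕ} {r : ℕ} (hk : killsB S r = true) {g : GL I27 F} (hS : Fx g S) (t : F)
    (hS27 : ∀ a ∈ S, a < 27) : Fx (xG r t * g) S := by
  simp only [killsB, Bool.and_eq_true, decide_eq_true_eq, List.all_eq_true, Bool.not_eq_true',
    List.contains_eq_mem, decide_eq_false_iff_not] at hk
  intro a ha
  obtain ⟨l, hl⟩ := hS a ha
  refine ⟨l, ?_⟩
  rw [act_mul, hl, act, mulVec_smul]
  congr 1
  refine ext_cv fun n hn => ?_
  show cv (act (xG r t) (eb F a)) n = _
  rw [xG_vec hk.1 t _ hn, List.sum_eq_zero, mul_zero, add_zero]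
  intro x hx
  obtain ⟨q, hq, rfl⟩ := List.mem_map.1 hx
  obtain ⟨e, he, e'⟩ := List.mem_filterMap.1 hq
  split_ifs at e'
  · have hq1 : q.1 = e.1 := (congrArg Prod.fst (Option.some.inj e')).symm
    have h27 : e.1 < 27 := by
      simpa using ((Bool.and_eq_true _ _).mp (List.all_eq_true.1 (edge_lt ⟨r, hk.1⟩) e he)).1
    rw [hq1, cv_eb (hS27 a ha) h27, if_neg (fun (h : e.1 = a) => hk.2 e he (h.symm ▸ ha)), mul_zero]

variable (G : Subgroup (GL I27 F)) (hG : ∀ r < 72, ∀ t : F, xG r t ∈ G) (hU : G ≤ E6univ F)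
include hG hU

omit hU in
theorem path_spec {S : List ℕ} (hS27 : ∀ a ∈ S, a < 27) {w : ℕ} (hU : G ≤ E6univ F) :
    ∀ (L : List (ℕ × ℕ × ℕ)) (R : List ℕ), pathB S R L = true →
      (∀ c ∈ R, ∀ g ∈ E6univ F, Fx g S → cv (act g (eb F w)) c ≠ 0 →
        ∃ x ∈ G, Fx (x * g) S ∧ cv (act (x * g) (eb F w)) w ≠ 0) →
      ∀ c ∈ R ++ L.map Prod.fst, ∀ g ∈ E6univ F, Fx g S → cv (act g (eb F w)) c ≠ 0 →
        ∃ x ∈ G, Fx (x * g) S ∧ cv (act (x * g) (eb F w)) w ≠ 0 := by
  intro L
  induction L with
  | nil => intro R _ hR c hc; exact hR c (by simpa using hc)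
  | cons p L ih =>
    obtain ⟨c, r, d⟩ := p
    intro R hB hR
    simp only [pathB, Bool.and_eq_true, decide_eq_true_eq, List.contains_eq_mem] at hB
    obtain ⟨⟨⟨⟨hk, hd⟩, hd27⟩, hm⟩, hrest⟩ := hB
    have hR' : ∀ c' ∈ c :: R, ∀ g ∈ E6univ F, Fx g S → cv (act g (eb F w)) c' ≠ 0 →
        ∃ x ∈ G, Fx (x * g) S ∧ cv (act (x * g) (eb F w)) w ≠ 0 := by
      intro c' hc' g hg hS hne
      rcases List.mem_cons.1 hc' with rfl | hc'
      · by_cases h0 : cv (act g (eb F w)) d = 0
        · split at hm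
          · next c'' s e =>
            simp only [Bool.and_eq_true, beq_iff_eq] at hm
            obtain ⟨rfl, hs⟩ := hm
            have hr : r < 72 := by
              simp only [killsB, Bool.and_eq_true, decide_eq_true_eq] at hk
              exact hk.1
            obtain ⟨x, hx, hxS, hxw⟩ := hR d hd (xG r 1 * g) (Subgroup.mul_mem _ (hU (hG r hr 1)) hg)
              (xG_kill hk hS 1 hS27) (by
                rw [act_mul, xG_vec hr 1 _ hd27, h0, e]
                simp [hne, (sign_ne (F := F) hs).1])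
            exact ⟨x * xG r 1, Subgroup.mul_mem _ hx (hG r hr 1), by rwa [mul_assoc], by rwa [mul_assoc]⟩
          · simp at hm
        · exact hR d hd g hg hS h0
      · exact hR c' hc' g hg hS hne
    intro c' hc'
    refine ih (c :: R) hrest hR' c' ?_
    simp only [List.map_cons, List.mem_append, List.mem_cons] at hc' ⊢
    tauto

theorem order_spec {S : List ℕ} (hS27 : ∀ a ∈ S, a < 27) {w : ℕ} (hw : w < 27) :
    ∀ (L : List (ℕ × ℕ)) (Z : List ℕ), (∀ z ∈ Z, z < 27) → orderB S w Z L = true →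
      ∀ g ∈ E6univ F, Fx g S → cv (act g (eb F w)) w ≠ 0 → (∀ z ∈ Z, cv (act g (eb F w)) z = 0) →
        ∃ x ∈ G, Fx (x * g) S ∧ cv (act (x * g) (eb F w)) w ≠ 0 ∧
          (∀ z ∈ clearedL Z L, cv (act (x * g) (eb F w)) z = 0) := by
  intro L
  induction L with
  | nil =>
    intro Z _ _ g _ hS hne hz
    exact ⟨1, Subgroup.one_mem _, by rwa [one_mul], by rwa [one_mul], by rw [one_mul]; exact hz⟩
  | cons p L ih =>
    obtain ⟨r, d⟩ := p
    intro Z hZ hB g hg hS hne hz
    simp only [orderB, Bool.and_eq_true, decide_eq_true_eq, List.all_eq_true, bne_iff_ne, Bool.or_eq_true,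
      Bool.not_eq_true', List.contains_eq_mem, decide_eq_false_iff_not] at hB
    obtain ⟨⟨⟨⟨hk, hd27⟩, hm⟩, he⟩, hrest⟩ := hB
    have hr : r < 72 := by
      simp only [killsB, Bool.and_eq_true, decide_eq_true_eq] at hk
      exact hk.1
    split at hm
    · next c s e =>
      simp only [Bool.and_eq_true, beq_iff_eq] at hm
      obtain ⟨rfl, hs⟩ := hm
      obtain ⟨hs0, hs2⟩ := sign_ne (F := F) hs
      set u := act g (eb F c) with hu
      set t : F := -(cv u d) * ((s : F) * (cv u c)⁻¹)
      have hwt : cv (act (xG r t * g) (eb F c)) c = cv u c := by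
        rw [act_mul, xG_vec hr t _ hw, show into r c = [] from
          List.filterMap_eq_nil_iff.2 fun e' he' => if_neg (he e' he').1]
        simp [hu]
      have hdt : cv (act (xG r t * g) (eb F c)) d = 0 := by
        rw [act_mul, xG_vec hr t _ hd27, e]
        simp only [List.map_cons, List.map_nil, List.sum_cons, List.sum_nil, add_zero, ← hu, t]
        field_simp
        linear_combination (-(cv u d)) * hs2
      have hzt : ∀ z ∈ Z, cv (act (xG r t * g) (eb F c)) z = 0 := by
        intro z hzZ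
        rw [act_mul, xG_vec hr t _ (hZ z hzZ), hz z hzZ, List.sum_eq_zero, mul_zero, add_zero]
        intro x hx
        obtain ⟨q, hq, rfl⟩ := List.mem_map.1 hx
        obtain ⟨e', he', e''⟩ := List.mem_filterMap.1 hq
        split_ifs at e'' with hdz
        · rw [← Option.some.inj e'']
          rcases (he e' he').2 with h | h
          · exact absurd (hdz ▸ hzZ) h
          · rw [hz _ h, mul_zero]
      obtain ⟨x, hx, h1, h2, h3⟩ := ih (d :: Z) (by simpa [hd27] using hZ) hrest (xG r t * g)
        (Subgroup.mul_mem _ (hU (hG r hr t)) hg) (xG_kill hk hS t hS27) (by rwa [hwt])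
        (by simpa [hdt] using hzt)
      exact ⟨x * xG r t, Subgroup.mul_mem _ hx (hG r hr t), by rwa [mul_assoc], by rwa [mul_assoc],
        by rw [mul_assoc]; exact h3⟩
    · simp at hm

theorem step_spec (hF : ∃ s : F, s ≠ 0 ∧ s ≠ 1) {S : List ℕ} (hS27 : ∀ a ∈ S, a < 27) {s : Step}
    (hB : stepB S s = true) {g : GL I27 F} (hg : g ∈ E6univ F) (hS : Fx g S) :
    s.w < 27 ∧ ∃ x ∈ G, Fx (x * g) (s.w :: S) := by
  simp only [stepB, Bool.and_eq_true, decide_eq_true_eq] at hB
  obtain ⟨⟨⟨⟨⟨hw, -⟩, hpath⟩, hpiv⟩, hord⟩, hsing⟩ := hB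
  refine ⟨hw, ?_⟩
  have hZ0 : ∀ z ∈ zeroL S s.w, z < 27 := by
    intro z hz
    rw [zeroL, List.mem_append, List.mem_flatMap, List.mem_flatMap] at hz
    rcases hz with ⟨a, ha, hz⟩ | ⟨a, ha, hz⟩
    · split_ifs at hz
      · simp at hz
      · exact farL_lt hz
    · obtain ⟨b, -, hz⟩ := List.mem_flatMap.1 hz
      split at hz
      · next c t e =>
        split_ifs at hz
        · simp at hz
        · obtain ⟨p, hp, -, -, e3, -⟩ := lnk_mem (e ▸ List.mem_singleton_self (c, t) : (c, t) ∈ lnk a b)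
          rw [List.mem_singleton.1 hz, ← e3]
          exact (pl_lt p hp).2.2
      · simp at hz
  have good : ∀ c, (zeroL S s.w).contains c = true ∨ (s.w :: s.path.map Prod.fst).contains c = true →
      cv (act g (eb F s.w)) c ≠ 0 → ∃ x ∈ G, Fx (x * g) S ∧ cv (act (x * g) (eb F s.w)) s.w ≠ 0 := by
    intro c hc hne
    rcases hc with hc | hc
    · exact absurd (zeroL_spec hg hS hS27 hw (by simpa using hc)) hne
    · exact path_spec G hG hS27 hU s.path [s.w] hpath
        (fun c' hc' g' _ hS' hne' => ⟨1, Subgroup.one_mem _, by rwa [one_mul], by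
          rw [one_mul, ← List.mem_singleton.1 hc']; rw [List.mem_singleton.1 hc'] at hne' ⊢; exact hne'⟩)
        c (by simpa using hc) g hg hS hne
  obtain ⟨x, hx, hxS, hxw⟩ : ∃ x ∈ G, Fx (x * g) S ∧ cv (act (x * g) (eb F s.w)) s.w ≠ 0 := by
    cases hk : s.kind with
    | all =>
      rw [hk] at hpiv
      simp only [pivB, List.all_eq_true, List.mem_range, Bool.or_eq_true] at hpiv
      by_contra hno
      refine act_eb_ne g hw (ext_cv fun c hc => ?_)
      by_contra hne
      exact hno (good c (hpiv c hc) hne)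
    | far a =>
      rw [hk] at hpiv
      simp only [pivB, Bool.and_eq_true, List.all_eq_true, Bool.or_eq_true] at hpiv
      obtain ⟨⟨ha, hwa⟩, hall⟩ := hpiv
      have ha : a ∈ S := by simpa using ha
      have hwa : s.w ∈ farL a := by simpa using hwa
      obtain ⟨d, t, hd, hl, ht⟩ := farL_lnk hwa
      by_contra hno
      obtain ⟨l, -, hla⟩ := hS.scalar ha (hS27 a ha)
      have e : B3 (act g (eb F a)) (act g (eb F s.w)) (act g (eb F d)) = 0 := by
        rw [hla, B3_smul, B3_one (hS27 a ha) _ _ fun c hc => by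
          by_contra hne
          exact hno (good c (hall c hc) hne), mul_zero]
      rw [act_B3 hg, B3_comm, B3_two (hS27 a ha) hd, hl] at e
      simp [cv_eb hw hw, (sign_ne (F := F) ht).1] at e
    | third a b =>
      rw [hk] at hpiv
      simp only [pivB, Bool.and_eq_true] at hpiv
      obtain ⟨⟨ha, hb⟩, hm⟩ := hpiv
      split at hm
      · next c t e =>
        obtain rfl : c = s.w := by simpa using hm
        exact ⟨1, Subgroup.one_mem _, by rwa [one_mul], by
          rw [one_mul]
          exact fun h0 => (third_eval hg hS (by simpa using ha) (by simpa using hb) e hw).1 h0 rfl⟩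
      · simp at hm
  have hxg : x * g ∈ E6univ F := Subgroup.mul_mem _ (hU hx) hg
  obtain ⟨y, hy, hyS, hyw, hyZ⟩ := order_spec G hG hU hS27 hw s.order _ hZ0 hord (x * g) hxg hxS hxw
    fun z hz => zeroL_spec hxg hxS hS27 hw hz
  refine ⟨y * x, Subgroup.mul_mem _ hy hx, fun a ha => ?_⟩
  rw [mul_assoc]
  rcases List.mem_cons.1 ha with rfl | ha
  · refine ⟨cv (act (y * (x * g)) (eb F s.w)) s.w, ext_cv fun n hn => ?_⟩
    show _ = _ * cv (eb F s.w) n
    rw [cv_eb hw hn]
    by_cases hnw : n = s.w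
    · simp [hnw]
    rw [if_neg hnw, mul_zero]
    simp only [singB, List.all_eq_true, List.mem_range, Bool.or_eq_true, beq_iff_eq, List.contains_eq_mem,
      decide_eq_true_eq] at hsing
    rcases hsing n hn with (h | h) | h
    · exact absurd h hnw
    · exact hyZ n h
    · split at h
      · next c t e =>
        simp only [Bool.and_eq_true, decide_eq_true_eq] at h
        obtain ⟨hc, h⟩ := h
        have hq := act_singular (Subgroup.mul_mem _ (hU hy) hxg) hF hw hc
        have key : ∀ L : List (ℕ × ℕ × ℤ),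
            (L.map fun q => (q.2.2 : F) * (cv (act (y * (x * g)) (eb F s.w)) q.1 *
              cv (act (y * (x * g)) (eb F s.w)) q.2.1)).sum =
            ((L.filter fun q => !((clearedL (zeroL S s.w) s.order).contains q.1 ||
              (clearedL (zeroL S s.w) s.order).contains q.2.1)).map
              fun q => (q.2.2 : F) * (cv (act (y * (x * g)) (eb F s.w)) q.1 *
                cv (act (y * (x * g)) (eb F s.w)) q.2.1)).sum := by
          intro L
          induction L with
          | nil => simp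
          | cons q L ih =>
            by_cases hz : q.1 ∈ clearedL (zeroL S s.w) s.order ∨ q.2.1 ∈ clearedL (zeroL S s.w) s.order
            · rw [List.filter_cons_of_neg (by simpa [← or_iff_not_imp_left] using hz), List.map_cons,
                List.sum_cons, ih]
              rcases hz with hz | hz <;> simp [hyZ _ hz]
            · rw [List.filter_cons_of_pos (by simpa [not_or] using hz), List.map_cons, List.map_cons,
                List.sum_cons, List.sum_cons, ih]
        rw [key] at hq
        simp only [List.contains_eq_mem] at hq h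
        split at h
        · next a b t' ef =>
          rw [ef] at hq
          simp only [Bool.and_eq_true, Bool.or_eq_true, beq_iff_eq] at h
          obtain ⟨hab, ht⟩ := h
          simp only [List.map_cons, List.map_nil, List.sum_cons, List.sum_nil, add_zero] at hq
          rcases hab with ⟨rfl, rfl⟩ | ⟨rfl, rfl⟩ <;>
            simpa [(sign_ne (F := F) ht).1, hyw] using hq
        · simp at h
      · simp at h
  · exact hyS a ha

theorem exists_diag (hF : ∃ s : F, s ≠ 0 ∧ s ≠ 1) {g : GL I27 F} (hg : g ∈ E6univ F) :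
    ∃ x ∈ G, Fx (x * g) (List.range 27) := by
  have key : ∀ (L : List Step) (S : List ℕ), (∀ a ∈ S, a < 27) → stepsB S L = true →
      ∀ g ∈ E6univ F, Fx g S → ∃ x ∈ G, Fx (x * g) (List.range 27) := by
    intro L
    induction L with
    | nil =>
      intro S _ hB g _ hS
      refine ⟨1, Subgroup.one_mem _, fun a ha => ?_⟩
      rw [one_mul]
      exact hS a (by simpa using List.all_eq_true.1 hB a ha)
    | cons s L ih =>
      intro S hS27 hB g hg hS
      rw [stepsB, Bool.and_eq_true] at hB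
      obtain ⟨hw, x, hx, hxS⟩ := step_spec G hG hU hF hS27 hB.1 hg hS
      obtain ⟨y, hy, hyS⟩ := ih (s.w :: S) (by simpa [hw] using hS27) hB.2 (x * g)
        (Subgroup.mul_mem _ (hU hx) hg) hxS
      exact ⟨y * x, Subgroup.mul_mem _ hy hx, by rwa [mul_assoc]⟩
  exact key steps [] (by simp) steps_ok g hg (by simp [Fx])

end CfsgLib.Known.E6Cubic
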