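import Mathlib
import Cfsg.Prelude.Def_E6
import Cfsg.Agent.Lib.Known.E6Cubic.Data

/-!
The cubic form of type E6 as a sum of forty-five square-free monomials, its polar form, and the
quantities that every isometry preserves.
-/

set_option autoImplicit false
set_option maxRecDepth 20000

namespace CfsgLib.Known.E6Cubic

open Matrix Cfsg.Lie

universe u v

/-- The number of a coordinate. -/
def cd (p : I27) : ℕ := 9 * p.1.val + 3 * p.2.1.val + p.2.2.val

/-- The coordinate with a given number. -/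
def ic (n : ℕ) : I27 :=
  (⟨n / 9 % 3, Nat.mod_lt _ (by norm_num)⟩, ⟨n / 3 % 3, Nat.mod_lt _ (by norm_num)⟩,
    ⟨n % 3, Nat.mod_lt _ (by norm_num)⟩)

theorem ic_cd : ∀ p : I27, ic (cd p) = p := by decide

theorem cd_lt : ∀ p : I27, cd p < 27 := by decide

theorem cd_ic : ∀ n < 27, cd (ic n) = n := by decide

theorem ic_inj {m n : ℕ} (hm : m < 27) (hn : n < 27) (h : ic m = ic n) : m = n := by
  rw [← cd_ic m hm, ← cd_ic n hn, h]

variable {F : Type v} [Field F]

/-- A coordinate of a vector. -/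
def cv (v : I27 → F) (n : ℕ) : F := v (ic n)

/-- A coordinate vector. -/
def eb (F : Type v) [Field F] (n : ℕ) : I27 → F := Pi.single (ic n) 1

theorem cv_eb {m n : ℕ} (hm : m < 27) (hn : n < 27) : cv (eb F m) n = if n = m then 1 else 0 := by
  rw [cv, eb, Pi.single_apply]
  by_cases h : n = m
  · simp [h]
  · rw [if_neg h, if_neg fun e => h (ic_inj hn hm e)]

theorem ext_cv {v w : I27 → F} (h : ∀ n < 27, cv v n = cv w n) : v = w := by
  funext p
  rw [← ic_cd p]
  exact h _ (cd_lt p)

/-- The value of the monomial list. -/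
def mval (v : I27 → F) (m : ℕ × ℕ × ℕ × ℤ) : F :=
  (m.2.2.2 : F) * (cv v m.1 * cv v m.2.1 * cv v m.2.2.1)

theorem cubicT_eq (v : I27 → F) : cubicT v = (mons.map (mval v)).sum := by
  simp only [mons, List.map_cons, List.map_nil, List.sum_cons, List.sum_nil, mval, cv, ic, cubicT, mat3,
    Matrix.det_fin_three, Matrix.trace_fin_three, Matrix.mul_apply, Fin.sum_univ_three, Matrix.of_apply]
  norm_num
  simp only [show ∀ h : 2 < 3, (⟨2, h⟩ : Fin 3) = 2 from fun _ => rfl]
  ring

/-- The six orders of a monomial. -/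
def perms6 (m : ℕ × ℕ × ℕ × ℤ) : List (ℕ × ℕ × ℕ × ℤ) :=
  [(m.1, m.2.1, m.2.2.1, m.2.2.2), (m.1, m.2.2.1, m.2.1, m.2.2.2), (m.2.1, m.1, m.2.2.1, m.2.2.2),
    (m.2.1, m.2.2.1, m.1, m.2.2.2), (m.2.2.1, m.1, m.2.1, m.2.2.2), (m.2.2.1, m.2.1, m.1, m.2.2.2)]

/-- All ordered monomials. -/
def pl : List (ℕ × ℕ × ℕ × ℤ) := mons.flatMap perms6

/-- A term of the polar form. -/
def tri (x y z : I27 → F) (p : ℕ × ℕ × ℕ × ℤ) : F :=
  (p.2.2.2 : F) * (cv x p.1 * cv y p.2.1 * cv z p.2.2.1)

/-- The polar form of the cubic form. -/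
def B3 (x y z : I27 → F) : F :=
  cubicT (x + y + z) - cubicT (x + y) - cubicT (x + z) - cubicT (y + z) + cubicT x + cubicT y + cubicT z

theorem B3_eq (x y z : I27 → F) : B3 x y z = (pl.map (tri x y z)).sum := by
  have h : ∀ L : List (ℕ × ℕ × ℕ × ℤ),
      (L.map (mval (x + y + z))).sum - (L.map (mval (x + y))).sum - (L.map (mval (x + z))).sum -
        (L.map (mval (y + z))).sum + (L.map (mval x)).sum + (L.map (mval y)).sum + (L.map (mval z)).sum =
      ((L.flatMap perms6).map (tri x y z)).sum := by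
    intro L
    induction L with
    | nil => simp
    | cons m L ih =>
      rw [List.flatMap_cons, List.map_append, List.sum_append, ← ih]
      simp only [List.map_cons, List.sum_cons, perms6, List.map_nil, List.sum_nil, mval, tri, cv,
        Pi.add_apply]
      ring
  rw [B3, cubicT_eq, cubicT_eq, cubicT_eq, cubicT_eq, cubicT_eq, cubicT_eq, cubicT_eq, pl, ← h]

theorem B3_comm (x y z : I27 → F) : B3 x y z = B3 x z y := by
  simp only [B3, add_right_comm x y z, add_comm y z]
  ring

theorem pl_lt : ∀ p ∈ pl, p.1 < 27 ∧ p.2.1 < 27 ∧ p.2.2.1 < 27 := by decide +kernel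

/-- The partners of a coordinate with a second one given. -/
def lnk (a b : ℕ) : List (ℕ × ℤ) :=
  pl.filterMap fun p => if p.1 = a ∧ p.2.1 = b then some (p.2.2.1, p.2.2.2) else none

/-- The coordinates far from a given one. -/
def farL (a : ℕ) : List ℕ := pl.filterMap fun p => if p.1 = a then some p.2.1 else none

theorem B3_two {a b : ℕ} (ha : a < 27) (hb : b < 27) (z : I27 → F) :
    B3 (eb F a) (eb F b) z = ((lnk a b).map fun q => (q.2 : F) * cv z q.1).sum := by
  rw [B3_eq, lnk]
  have h : ∀ L : List (ℕ × ℕ × ℕ × ℤ), (∀ p ∈ L, p.1 < 27 ∧ p.2.1 < 27) →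
      (L.map (tri (eb F a) (eb F b) z)).sum =
        ((L.filterMap fun p => if p.1 = a ∧ p.2.1 = b then some (p.2.2.1, p.2.2.2) else none).map
          fun q : ℕ × ℤ => (q.2 : F) * cv z q.1).sum := by
    intro L hL
    induction L with
    | nil => simp
    | cons p L ih =>
      obtain ⟨h1, h2⟩ := hL p List.mem_cons_self
      have hr := ih fun q hq => hL q (List.mem_cons_of_mem _ hq)
      rw [List.map_cons, List.sum_cons, hr, tri, cv_eb ha h1, cv_eb hb h2]
      by_cases e1 : p.1 = a <;> by_cases e2 : p.2.1 = b <;> simp [e1, e2]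
  exact h pl fun p hp => ⟨(pl_lt p hp).1, (pl_lt p hp).2.1⟩

theorem B3_one {a : ℕ} (ha : a < 27) (x z : I27 → F) (hx : ∀ c ∈ farL a, cv x c = 0) :
    B3 (eb F a) x z = 0 := by
  rw [B3_eq]
  refine List.sum_eq_zero fun t ht => ?_
  obtain ⟨p, hp, rfl⟩ := List.mem_map.1 ht
  rw [tri, cv_eb ha (pl_lt p hp).1]
  by_cases e : p.1 = a
  · rw [hx _ (List.mem_filterMap.2 ⟨p, hp, if_pos e⟩), mul_zero, zero_mul, mul_zero]
  · rw [if_neg e, zero_mul, zero_mul, mul_zero]

/-- The linear part in one coordinate. -/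
def ql (c : ℕ) : List (ℕ × ℕ × ℤ) :=
  mons.filterMap fun m =>
    if m.1 = c then some (m.2.1, m.2.2.1, m.2.2.2)
    else if m.2.1 = c then some (m.1, m.2.2.1, m.2.2.2)
    else if m.2.2.1 = c then some (m.1, m.2.1, m.2.2.2) else none

theorem mons_ok : ∀ m ∈ mons, m.1 < 27 ∧ m.2.1 < 27 ∧ m.2.2.1 < 27 ∧ m.1 ≠ m.2.1 ∧ m.1 ≠ m.2.2.1 ∧
    m.2.1 ≠ m.2.2.1 := by decide +kernel

theorem cubicT_add_single (x : I27 → F) {c : ℕ} (hc : c < 27) (s : F) :
    cubicT (x + s • eb F c) = cubicT x + s * ((ql c).map fun q => (q.2.2 : F) * (cv x q.1 * cv x q.2.1)).sum := by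
  rw [cubicT_eq, cubicT_eq, ql]
  have h : ∀ L : List (ℕ × ℕ × ℕ × ℤ), (∀ m ∈ L, m.1 < 27 ∧ m.2.1 < 27 ∧ m.2.2.1 < 27 ∧ m.1 ≠ m.2.1 ∧
      m.1 ≠ m.2.2.1 ∧ m.2.1 ≠ m.2.2.1) →
      (L.map (mval (x + s • eb F c))).sum = (L.map (mval x)).sum + s * ((L.filterMap fun m =>
        if m.1 = c then some (m.2.1, m.2.2.1, m.2.2.2)
        else if m.2.1 = c then some (m.1, m.2.2.1, m.2.2.2)
        else if m.2.2.1 = c then some (m.1, m.2.1, m.2.2.2) else none).map
          fun q : ℕ × ℕ × ℤ => (q.2.2 : F) * (cv x q.1 * cv x q.2.1)).sum := by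
    intro L hL
    induction L with
    | nil => simp
    | cons m L ih =>
      obtain ⟨h1, h2, h3, d1, d2, d3⟩ := hL m List.mem_cons_self
      have hr := ih fun q hq => hL q (List.mem_cons_of_mem _ hq)
      have e : ∀ n < 27, cv (x + s • eb F c) n = cv x n + if n = c then s else 0 := fun n hn => by
        show cv x n + s * cv (eb F c) n = _
        rw [cv_eb hc hn]
        split_ifs <;> simp
      simp only [List.map_cons, List.sum_cons, hr, mval, e _ h1, e _ h2, e _ h3]
      by_cases a1 : m.1 = c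
      · subst a1
        simp [Ne.symm d1, Ne.symm d2]
        ring
      by_cases a2 : m.2.1 = c
      · subst a2
        simp [d1, Ne.symm d3]
        ring
      by_cases a3 : m.2.2.1 = c
      · subst a3
        simp [d2, d3]
        ring
      simp [a1, a2, a3]
      ring
  exact h mons mons_ok

theorem eb_zero {c : ℕ} (hc : c < 27) (s : F) : cubicT (s • eb F c) = 0 := by
  rw [cubicT_eq]
  refine List.sum_eq_zero fun t ht => ?_
  obtain ⟨m, hm, rfl⟩ := List.mem_map.1 ht
  obtain ⟨h1, h2, -, d1, -, -⟩ := mons_ok m hm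
  have e : ∀ n < 27, cv (s • eb F c) n = if n = c then s else 0 := fun n hn => by
    show s * cv (eb F c) n = _
    rw [cv_eb hc hn]
    split_ifs <;> simp
  rw [mval, e _ h1, e _ h2]
  by_cases a1 : m.1 = c
  · rw [if_neg (fun h => d1 (a1.trans h.symm) : ¬ m.2.1 = c)]
    simp
  · simp [a1]

/-- The action on vectors. -/
abbrev act (g : GL I27 F) (v : I27 → F) : I27 → F := (g : Matrix I27 I27 F) *ᵥ v

theorem act_T {g : GL I27 F} (hg : g ∈ E6univ F) (v : I27 → F) : cubicT (act g v) = cubicT v := hg v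

theorem act_B3 {g : GL I27 F} (hg : g ∈ E6univ F) (x y z : I27 → F) :
    B3 (act g x) (act g y) (act g z) = B3 x y z := by
  simp only [B3, act, ← mulVec_add]
  rw [act_T hg, act_T hg, act_T hg, act_T hg, act_T hg, act_T hg, act_T hg]

theorem act_inv (g : GL I27 F) (v : I27 → F) : act g (act g⁻¹ v) = v := by
  rw [act, act, mulVec_mulVec, ← Units.val_mul, mul_inv_cancel, Units.val_one, one_mulVec]

theorem act_mul (g h : GL I27 F) (v : I27 → F) : act (g * h) v = act g (act h v) := by
  rw [act, act, act, mulVec_mulVec, Units.val_mul]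

theorem inv_act (g : GL I27 F) (v : I27 → F) : act g⁻¹ (act g v) = v := by
  rw [← act_mul, inv_mul_cancel, act, Units.val_one, one_mulVec]

theorem act_eb_ne (g : GL I27 F) {w : ℕ} (hw : w < 27) : act g (eb F w) ≠ 0 := fun h => by
  have e := inv_act g (eb F w)
  rw [h, act, mulVec_zero] at e
  have := congrArg (fun x => cv x w) e
  simp only [cv_eb hw hw, if_true] at this
  exact zero_ne_one this

/-- The image of a coordinate vector is singular. -/
theorem act_singular {g : GL I27 F} (hg : g ∈ E6univ F) (hF : ∃ s : F, s ≠ 0 ∧ s ≠ 1) {w c : ℕ}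
    (hw : w < 27) (hc : c < 27) :
    ((ql c).map fun q => (q.2.2 : F) * (cv (act g (eb F w)) q.1 * cv (act g (eb F w)) q.2.1)).sum = 0 := by
  set q := ((ql c).map fun q => (q.2.2 : F) * (cv (act g (eb F w)) q.1 * cv (act g (eb F w)) q.2.1)).sum
  set v := act g⁻¹ (eb F c) with hv
  set A := ((ql w).map fun q => (q.2.2 : F) * (cv v q.1 * cv v q.2.1)).sum
  have hTv : cubicT v = 0 := by
    have e := act_T hg v
    rw [hv, act_inv] at e
    rw [hv, ← e]
    simpa using eb_zero (F := F) hc 1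
  have key : ∀ s : F, s * q = s ^ 2 * A := fun s => by
    have h1 := cubicT_add_single (act g (eb F w)) hc s
    rw [act_T hg, show cubicT (eb F w) = 0 by simpa using eb_zero (F := F) hw 1, zero_add] at h1
    rw [← h1, ← act_inv g (eb F c), ← hv, act, act, ← mulVec_smul, ← mulVec_add]
    rw [show ((g : Matrix I27 I27 F) *ᵥ (eb F w + s • v)) = act g (eb F w + s • v) from rfl, act_T hg]
    by_cases hs : s = 0
    · simp [hs, show cubicT (eb F w) = 0 by simpa using eb_zero (F := F) hw 1]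
    have h2 := cubicT_add_single (s • v) hw 1
    rw [one_smul, one_mul] at h2
    rw [add_comm, h2]
    have hs3 : cubicT (s • v) = s ^ 3 * cubicT v := by
      rw [cubicT_eq, cubicT_eq, ← List.sum_map_mul_left]
      refine congrArg List.sum (List.map_congr_left fun m _ => ?_)
      simp only [mval, cv, Pi.smul_apply, smul_eq_mul]
      ring
    rw [hs3, hTv, mul_zero, zero_add, ← List.sum_map_mul_left]
    refine congrArg List.sum (List.map_congr_left fun m _ => ?_)
    simp only [cv, Pi.smul_apply, smul_eq_mul]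
    ring
  obtain ⟨s, hs0, hs1⟩ := hF
  have k1 := key 1
  rw [one_mul, one_pow, one_mul] at k1
  have k2 := key s
  rw [← k1] at k2
  have : (s * (s - 1)) * q = 0 := by linear_combination -k2
  exact (mul_eq_zero.1 this).resolve_left (mul_ne_zero hs0 (sub_ne_zero.2 hs1))

end CfsgLib.Known.E6Cubic
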