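import Cfsg.Agent.Lib.Known.E6Cubic.Elim
import Cfsg.Agent.Lib.Chev.All
import Cfsg.Agent.Lib.Chev.Perfect
import Cfsg.Agent.Lib.Chev.StTheta

/-!
The group of the cubic form modulo its centre is the Chevalley group of type E6.
-/

set_option autoImplicit false
set_option maxRecDepth 100000
set_option Elab.async false

namespace CfsgLib.Known.E6Cubic

open Matrix Cfsg.Lie CfsgLib.Chev

universe u v

theorem six_ok : ∀ b b' : Fin 6, (∑ i : Fin 6, expo i.val (six.getD b.val 0) * (sixInv.getD i.val []).getD b'.val 0) =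
    if b = b' then 1 else 0 := by decide +kernel

/-- The test of the propagation. -/
def propB : List ℕ → List (ℕ × ℕ × ℕ) → Bool
  | R, [] => (List.range 27).all fun n => R.contains n
  | R, (a, b, c) :: L => R.contains a && R.contains b &&
      (match lnk a b with
        | [(c', s)] => c' == c && isSign s
        | _ => false) && propB (c :: R) L

theorem prop_ok : propB six prop = true := by decide +kernel

theorem six_lt : six.length = 6 ∧ (six.all fun b => decide (b < 27)) = true := by decide +kernel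

theorem witness_ok : chevE6.simple 0 < 72 ∧ chevE6.simple 2 < 72 ∧
    ((into (chevE6.simple 0) 15).map fun q => (q.1, q.2 * q.2)) = [(4, 1)] ∧
    ((into (chevE6.simple 2) 4).map fun q => (q.1, q.2 * q.2)) = [(7, 1)] ∧
    into (chevE6.simple 2) 15 = [] := by
  decide +kernel

variable {F : Type v} [Field F]

theorem triad_rel {g : GL I27 F} (hg : g ∈ E6univ F) {l : ℕ → F} (hl : ∀ n < 27, act g (eb F n) = l n • eb F n)
    {a b c : ℕ} {s : ℤ} (h : lnk a b = [(c, s)]) (hs : isSign s = true) : l a * l b * l c = 1 := by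
  obtain ⟨p, hp, e1, e2, e3, -⟩ := lnk_mem (h ▸ List.mem_singleton_self (c, s) : (c, s) ∈ lnk a b)
  obtain ⟨h1, h2, h3⟩ := pl_lt p hp
  rw [e1] at h1; rw [e2] at h2; rw [e3] at h3
  have e := act_B3 hg (eb F a) (eb F b) (eb F c)
  rw [hl a h1, hl b h2, hl c h3, B3_eq, B3_eq] at e
  have e' : (pl.map (tri (l a • eb F a) (l b • eb F b) (l c • eb F c))).sum =
      l a * l b * l c * (pl.map (tri (eb F a) (eb F b) (eb F c))).sum := by
    rw [← List.sum_map_mul_left]
    refine congrArg List.sum (List.map_congr_left fun q _ => ?_)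
    simp only [tri, cv, Pi.smul_apply, smul_eq_mul]
    ring
  rw [e', ← B3_eq, B3_two h1 h2, h] at e
  simpa [cv_eb h3 h3, (sign_ne (F := F) hs).1] using e

theorem op_not_comm : op F (chevE6.simple 2) * op F (chevE6.simple 0) ≠
    op F (chevE6.simple 0) * op F (chevE6.simple 2) := by
  obtain ⟨hr, hs, h1, h2, h3⟩ := witness_ok
  intro e
  have e1 : cv ((op F (chevE6.simple 2) * op F (chevE6.simple 0)) *ᵥ eb F 7) 15 = 0 := by
    rw [← mulVec_mulVec, op_vec hs _ (by norm_num), h3]
    rfl
  rw [e, ← mulVec_mulVec, op_vec hr _ (by norm_num)] at e1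
  obtain ⟨⟨a, s⟩, ha, ea⟩ := List.map_eq_singleton_iff.1 h1
  obtain ⟨⟨b, s'⟩, hb, eb'⟩ := List.map_eq_singleton_iff.1 h2
  simp only [Prod.mk.injEq] at ea eb'
  obtain ⟨rfl, hs1⟩ := ea
  obtain ⟨rfl, hs2⟩ := eb'
  rw [ha] at e1
  simp only [List.map_cons, List.map_nil, List.sum_cons, List.sum_nil, add_zero] at e1
  rw [op_vec hs _ (by norm_num), hb] at e1
  simp only [List.map_cons, List.map_nil, List.sum_cons, List.sum_nil, add_zero, cv_eb (by norm_num : 7 < 27)
    (by norm_num : 7 < 27), if_true, mul_one] at e1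
  have z1 : (s : F) * s = 1 := by exact_mod_cast congrArg (fun z : ℤ => (z : F)) hs1
  have z2 : (s' : F) * s' = 1 := by exact_mod_cast congrArg (fun z : ℤ => (z : F)) hs2
  exact one_ne_zero (α := F) (by linear_combination (s : F) * (s' : F) * e1 - z2 - (s' : F) * s' * z1)

/-- The product of fundamental torus elements. -/
noncomputable def torusG (t : ℕ → F) (L : List ℕ) : GL I27 F := (L.map fun i => hG (chevE6.simple i) (t i)).prod

theorem torusG_vec (t : ℕ → F) : ∀ L : List ℕ, (∀ i ∈ L, i < 6) → (∀ i ∈ L, t i ≠ 0) → ∀ (v : I27 → F) {n : ℕ},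
    n < 27 → cv (act (torusG t L) v) n = (L.map fun i => t i ^ expo i n).prod * cv v n
  | [], _, _, v, n, _ => by simp [torusG, act]
  | i :: L, h, h', v, n, hn => by
    rw [torusG, List.map_cons, List.prod_cons, act_mul, hG_vec (h i List.mem_cons_self) (h' i List.mem_cons_self) _ hn,
      ← torusG, torusG_vec t L (fun j hj => h j (List.mem_cons_of_mem _ hj))
        (fun j hj => h' j (List.mem_cons_of_mem _ hj)) v hn, List.map_cons, List.prod_cons]
    ring

theorem eq_of_eb {g h : GL I27 F} (H : ∀ n < 27, act g (eb F n) = act h (eb F n)) : g = h := by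
  refine Units.ext (Matrix.ext_of_mulVec_single fun p => ?_)
  have := H (cd p) (cd_lt p)
  rwa [eb, ic_cd] at this

/-- Every isometry is a product of root elements. -/
theorem mem_of_mem_univ (G : Subgroup (GL I27 F)) (hG' : ∀ r < 72, ∀ t : F, xG r t ∈ G) (hU : G ≤ E6univ F)
    (hF : ∃ s : F, s ≠ 0 ∧ s ≠ 1) {g : GL I27 F} (hg : g ∈ E6univ F) : g ∈ G := by
  classical
  obtain ⟨x, hx, hxg⟩ := exists_diag G hG' hU hF hg
  have hxgU : x * g ∈ E6univ F := Subgroup.mul_mem _ (hU hx) hg
  have hl : ∀ n, ∃ l : F, l ≠ 0 ∧ (n < 27 → act (x * g) (eb F n) = l • eb F n) := fun n => by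
    by_cases hn : n < 27
    · obtain ⟨l, h0, h1⟩ := hxg.scalar (List.mem_range.2 hn) hn
      exact ⟨l, h0, fun _ => h1⟩
    · exact ⟨1, one_ne_zero, fun h => absurd h hn⟩
  choose l hl0 hle using hl
  set lu : ℕ → Fˣ := fun n => Units.mk0 (l n) (hl0 n)
  set T : ℕ → Fˣ := fun i => ∏ b : Fin 6, lu (six.getD b.val 0) ^ (sixInv.getD i []).getD b.val 0
  set t : ℕ → F := fun i => (T i : F)
  set h := torusG t (List.range 6) with hh
  have hmem : h ∈ G := by
    refine Subgroup.list_prod_mem _ fun y hy => ?_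
    obtain ⟨i, hi, rfl⟩ := List.mem_map.1 hy
    obtain ⟨-, hr⟩ := hits_ok ⟨i, List.mem_range.1 hi⟩ 0
    simp only at hr
    have hn := (pairs_ok ⟨_, hr⟩).2.2
    exact Subgroup.mul_mem _ (Subgroup.mul_mem _ (Subgroup.mul_mem _ (hG' _ hr _) (hG' _ hn _)) (hG' _ hr _))
      (Subgroup.mul_mem _ (Subgroup.mul_mem _ (hG' _ hr _) (hG' _ hn _)) (hG' _ hr _))
  set μ : ℕ → F := fun n => ((List.range 6).map fun i => t i ^ expo i n).prod with hμ
  have hact : ∀ n < 27, act h (eb F n) = μ n • eb F n := fun n hn => ext_cv fun m hm => by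
    rw [hh, torusG_vec t _ (fun i hi => List.mem_range.1 hi) (fun i _ => Units.ne_zero _) _ hm]
    show _ = μ n * cv (eb F n) m
    rw [cv_eb hn hm]
    by_cases e : m = n
    · subst e; rfl
    · simp [e]
  have hsix : ∀ b : Fin 6, μ (six.getD b.val 0) = l (six.getD b.val 0) := by
    intro b
    have e : (∏ i : Fin 6, T i.val ^ expo i.val (six.getD b.val 0)) = lu (six.getD b.val 0) := by
      have hsw : ∀ i : Fin 6, T i.val ^ expo i.val (six.getD b.val 0) = ∏ b' : Fin 6,
          lu (six.getD b'.val 0) ^ (expo i.val (six.getD b.val 0) * (sixInv.getD i.val []).getD b'.val 0) := by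
        intro i
        rw [← Finset.prod_zpow]
        exact Finset.prod_congr rfl fun b' _ => by rw [← _root_.zpow_mul, mul_comm]
      simp only [hsw]
      rw [Finset.prod_comm]
      have hz : ∀ b' : Fin 6, (∏ i : Fin 6,
          lu (six.getD b'.val 0) ^ (expo i.val (six.getD b.val 0) * (sixInv.getD i.val []).getD b'.val 0)) =
          if b = b' then lu (six.getD b'.val 0) else 1 := fun b' => by
        rw [← Finset.prod_congr rfl fun i _ => rfl,
          show ∀ (a : Fˣ) (f : Fin 6 → ℤ), (∏ i, a ^ f i) = a ^ ∑ i, f i from fun a f => by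
            simp only [Fin.prod_univ_six, Fin.sum_univ_six, _root_.zpow_add], six_ok b b']
        split_ifs <;> simp
      simp only [hz, Finset.prod_ite_eq, Finset.mem_univ, if_true]
    have e' := congrArg (fun u : Fˣ => (u : F)) e
    simp only [Units.coe_prod, Units.val_zpow_eq_zpow_val, Fin.prod_univ_six] at e'
    rw [hμ]
    simp only [List.range_succ, List.range_zero, List.nil_append, List.cons_append, List.map_cons, List.map_nil,
      List.prod_cons, List.prod_nil, mul_one]
    rw [← mul_assoc, ← mul_assoc, ← mul_assoc, ← mul_assoc]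
    simp only [Units.val_mul, Units.val_zpow_eq_zpow_val] at e'
    simpa [t, lu] using e'
  have key : ∀ (L : List (ℕ × ℕ × ℕ)) (R : List ℕ), (∀ n ∈ R, μ n = l n) → propB R L = true →
      ∀ n < 27, μ n = l n := by
    intro L
    induction L with
    | nil =>
      intro R hR hB n hn
      exact hR n (by simpa using List.all_eq_true.1 hB n (List.mem_range.2 hn))
    | cons p L ih =>
      obtain ⟨a, b, c⟩ := p
      intro R hR hB
      simp only [propB, Bool.and_eq_true, List.contains_eq_mem, decide_eq_true_eq] at hB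
      obtain ⟨⟨⟨ha, hb⟩, hm⟩, hrest⟩ := hB
      refine ih (c :: R) (fun n hn => ?_) hrest
      rcases List.mem_cons.1 hn with rfl | hn
      · split at hm
        · next c' s e =>
          simp only [Bool.and_eq_true, beq_iff_eq] at hm
          obtain ⟨rfl, hs⟩ := hm
          have r1 := triad_rel (hU hmem) hact e hs
          have r2 := triad_rel hxgU hle e hs
          rw [hR a ha, hR b hb, ← r2] at r1
          exact mul_left_cancel₀ (mul_ne_zero (hl0 a) (hl0 b)) r1
        · simp at hm
      · exact hR n hn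
  have hall := key prop six (fun n hn => by
    obtain ⟨k, hk, rfl⟩ := List.mem_iff_getElem.1 hn
    have := hsix ⟨k, six_lt.1 ▸ hk⟩
    simp only [List.getD_eq_getElem _ _ hk] at this
    exact this) prop_ok
  have e : x * g = h := eq_of_eb fun n hn => by rw [hle n hn, hact n hn, hall n hn]
  rw [show g = x⁻¹ * h by rw [← e, inv_mul_cancel_left]]
  exact Subgroup.mul_mem _ (Subgroup.inv_mem _ hx) hmem

/-- The group of the cubic form modulo its centre is the Chevalley group. -/
theorem nonempty_equiv (hF : ∃ s : F, s ≠ 0 ∧ s ≠ 1) : Nonempty (E6 F ≃* ↥(chevE6.group F)) := by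
  obtain ⟨φ, hφ⟩ := exists_phi27 (F := F)
  have hU : φ.range ≤ E6univ F := by
    rw [MonoidHom.range_eq_map, ← stClosure_top, stClosure, MonoidHom.map_closure, Subgroup.closure_le]
    rintro _ ⟨y, ⟨r, t, hr, -, rfl⟩, rfl⟩
    rw [SetLike.mem_coe, hφ r t hr]
    exact xG_mem hr t
  have hG' : ∀ r < 72, ∀ t : F, xG r t ∈ φ.range := fun r hr t => ⟨_, hφ r t hr⟩
  let φ' : chevE6.SteinbergGroup F →* E6univ F := φ.codRestrict _ fun y => hU ⟨y, rfl⟩
  have hφ' : Function.Surjective φ' := fun g => by
    obtain ⟨y, hy⟩ := mem_of_mem_univ _ hG' hU hF g.2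
    exact ⟨y, Subtype.ext hy⟩
  obtain ⟨θ, hθ, hker, -⟩ := DataE6.facts.exists_surj good_E6.comm (hasNbr_of_mem (by simp)) (K := F)
  let ψ := (QuotientGroup.mk' (Subgroup.center (E6univ F))).comp φ'
  have hψ : Function.Surjective ψ := (QuotientGroup.mk'_surjective _).comp hφ'
  have hle : θ.ker ≤ ψ.ker := by
    rw [hker]
    intro z hz
    rw [MonoidHom.mem_ker, MonoidHom.comp_apply, QuotientGroup.mk'_apply, QuotientGroup.eq_one_iff,
      Subgroup.mem_center_iff]
    intro y
    obtain ⟨w, rfl⟩ := hφ' y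
    rw [← map_mul, ← map_mul, Subgroup.mem_center_iff.1 hz w]
  have hsimp : IsSimpleGroup ↥(chevE6.group F) :=
    (simple_of_perfect good_E6 linked_E6 (perfect_of_singleStep good_E6 singleStep_E6)).1
  have hn : (ψ.ker.map θ).Normal := Subgroup.Normal.map inferInstance θ hθ
  rcases hsimp.eq_bot_or_eq_top_of_normal _ hn with h | h
  · have he : θ.ker = ψ.ker := le_antisymm hle ((Subgroup.map_eq_bot_iff _).1 h)
    exact ⟨((QuotientGroup.quotientKerEquivOfSurjective ψ hψ).symm.trans
      ((QuotientGroup.quotientMulEquivOfEq he.symm).trans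
        (QuotientGroup.quotientKerEquivOfSurjective θ hθ)))⟩
  · exfalso
    have htop : ψ.ker = ⊤ := by rw [← Subgroup.comap_map_eq_self hle, h, Subgroup.comap_top]
    obtain ⟨hr, hs, -, -, -⟩ := witness_ok
    have hc : ∀ y, φ' y ∈ Subgroup.center (E6univ F) := fun y => by
      rw [← QuotientGroup.eq_one_iff]
      exact (MonoidHom.mem_ker (f := ψ)).1 (htop ▸ trivial)
    have e := congrArg (fun z : E6univ F => ((z : GL I27 F) : Matrix I27 I27 F))
      (Subgroup.mem_center_iff.1 (hc (chevE6.stGen F (chevE6.simple 0) 1)) (φ' (chevE6.stGen F (chevE6.simple 2) 1)))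
    simp only [φ', MonoidHom.codRestrict_apply, Subgroup.coe_mul, Units.val_mul, hφ _ _ hr, hφ _ _ hs,
      xG_val hr, xG_val hs, xM, one_smul, add_mul, mul_add, one_mul, mul_one] at e
    have e' : op F (chevE6.simple 2) * op F (chevE6.simple 0) = op F (chevE6.simple 0) * op F (chevE6.simple 2) := by
      linear_combination (norm := abel) e
    exact op_not_comm e'

end CfsgLib.Known.E6Cubic
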