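import Cfsg.Agent.Lib.Chev.All
import Cfsg.Agent.Lib.Chev.Ortho.SM
import Cfsg.Agent.Lib.Known.E6Cubic.Form
import Cfsg.Prelude.Def_Steinberg

/-!
The root operators on the twenty-seven coordinates of the cubic form of type E6, with their checked
relations.
-/

set_option autoImplicit false
set_option maxRecDepth 100000
set_option Elab.async false

namespace CfsgLib.Known.E6Cubic

open Matrix Cfsg.Lie CfsgLib.Chev CfsgLib.Chev.Ortho

universe u v

/-- The moves of a root. -/
def edges (r : ℕ) : List (ℕ × ℕ × Bool) := edgeTab.getD r []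

/-- A sign. -/
def sgnB (b : Bool) : ℤ := if b then -1 else 1

/-- The symbolic operator of a root. -/
def opS (r : ℕ) : SM I27 := (edges r).map fun e => ((ic e.2.1, ic e.1, 0, 0), sgnB e.2.2)

/-- A multiple of a symbolic matrix. -/
def scaleS (c : ℤ) (L : SM I27) : SM I27 := L.map fun e => (e.1, c * e.2)

variable {F : Type v} [Field F]

/-- The value of a constant symbolic matrix. -/
noncomputable def sv (F : Type v) [Field F] (L : SM I27) : Matrix I27 I27 F := sEval (1 : F) 1 L

/-- The operator of a root. -/
noncomputable def op (F : Type v) [Field F] (r : ℕ) : Matrix I27 I27 F := sv F (opS r)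

theorem sv_scale (c : ℤ) : ∀ L : SM I27, sv F (scaleS c L) = (c : F) • sv F L
  | [] => by simp [sv, scaleS, sEval_nil]
  | e :: L => by
    have ih := sv_scale c L
    simp only [sv, scaleS, List.map_cons, sEval_cons] at ih ⊢
    rw [ih, smul_add, sMono, sMono, Matrix.smul_single, Int.cast_mul, smul_eq_mul]
    congr 2
    ring

theorem sv_mul (L M : SM I27) : sv F (sMul L M) = sv F L * sv F M := sEval_mul _ _ L M

theorem sv_append (L M : SM I27) : sv F (L ++ M) = sv F L + sv F M := sEval_append _ _ L M

theorem sv_nil : sv F ([] : SM I27) = 0 := rfl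

theorem sv_eq {L M : SM I27} (h : sEq L M = true) : sv F L = sv F M := eq_of_sEq _ _ h

/-- The test of the squares and the rank one blocks. -/
def pairB (r : ℕ) : Bool :=
  sEq (sMul (opS r) (opS r)) [] && sEq (sMul (opS r) (sMul (opS (chevE6.neg r)) (opS r))) (opS r) &&
    sEq (sMul (opS r) (opS (chevE6.neg r))) ((edges r).map fun e => ((ic e.2.1, ic e.2.1, 0, 0), (1 : ℤ)))

/-- The test of the commutator of two roots. -/
def commB2 (r s : ℕ) : Bool :=
  match chevE6.commTerms r s with
  | [] => sEq (sMul (opS r) (opS s)) (sMul (opS s) (opS r))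
  | [(p, c, 1, 1)] => decide (p < 72) &&
      sEq (sMul (opS r) (opS s)) (sMul (opS s) (opS r) ++ scaleS c (opS p)) &&
      sEq (sMul (opS r) (opS p)) [] && sEq (sMul (opS s) (opS p)) []
  | _ => false

theorem pairs_ok : ∀ r : Fin 72, pairB r.val = true ∧ chevE6.neg (chevE6.neg r.val) = r.val ∧
    chevE6.neg r.val < 72 := by decide +kernel

theorem comms_ok : ((List.range 72).all fun r => (List.range 72).all fun s =>
    s == r || s == chevE6.neg r || commB2 r s) = true := by decide +kernel

theorem nroots72 : chevE6.nroots = 72 := rfl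

theorem op_sq {r : ℕ} (hr : r < 72) : op F r * op F r = 0 := by
  have h := (pairs_ok ⟨r, hr⟩).1
  simp only [pairB, Bool.and_eq_true] at h
  rw [op, ← sv_mul, sv_eq h.1.1, sv_nil]

theorem op_triple {r : ℕ} (hr : r < 72) : op F r * op F (chevE6.neg r) * op F r = op F r := by
  have h := (pairs_ok ⟨r, hr⟩).1
  simp only [pairB, Bool.and_eq_true] at h
  rw [op, op, mul_assoc, ← sv_mul, ← sv_mul, sv_eq h.1.2]

theorem op_triple' {r : ℕ} (hr : r < 72) :
    op F (chevE6.neg r) * op F r * op F (chevE6.neg r) = op F (chevE6.neg r) := by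
  obtain ⟨-, h1, h2⟩ := pairs_ok ⟨r, hr⟩
  have := op_triple (F := F) h2
  simp only at h1
  rwa [h1] at this

end CfsgLib.Known.E6Cubic
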