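import Cfsg.Agent.Lib.Known.E6Cubic.Operators

/-!
The homomorphism from the presented group of type E6 into the linear group on twenty-seven coordinates.
-/

set_option autoImplicit false
set_option maxRecDepth 100000

namespace CfsgLib.Known.E6Cubic

open Matrix Cfsg.Lie CfsgLib.Chev CfsgLib.Chev.Ortho

universe u v

variable {F : Type v} [Field F]

/-- The matrix of a root element. -/
noncomputable def xM (r : ℕ) (t : F) : Matrix I27 I27 F := 1 + t • op F r

theorem xM_mul {r : ℕ} (hr : r < 72) (t u : F) : xM r t * xM r u = xM r (t + u) := by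
  simp only [xM, add_mul, mul_add, one_mul, mul_one, smul_mul_assoc, mul_smul_comm, op_sq hr, smul_zero,
    add_zero, add_smul]
  abel

/-- A root element. -/
noncomputable def xG (r : ℕ) (t : F) : GL I27 F :=
  if hr : r < 72 then ⟨xM r t, xM r (-t), by rw [xM_mul hr, add_neg_cancel]; simp [xM],
    by rw [xM_mul hr, neg_add_cancel]; simp [xM]⟩
  else 1

theorem xG_val {r : ℕ} (hr : r < 72) (t : F) : ((xG r t : GL I27 F) : Matrix I27 I27 F) = xM r t := by
  rw [xG, dif_pos hr]

theorem xG_add {r : ℕ} (hr : r < 72) (t u : F) : xG r t * xG r u = xG r (t + u) :=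
  Units.ext (by rw [Units.val_mul, xG_val hr, xG_val hr, xG_val hr, xM_mul hr])

theorem xG_comm {r s : ℕ} (hr : r < 72) (hs : s < 72) (h1 : s ≠ r) (h2 : s ≠ chevE6.neg r) (t u : F) :
    xG s u * xG r t = xG r t * xG s u *
      ((chevE6.commWord F r s t u).map fun p => xG p.1 p.2).prod := by
  have h := comms_ok
  rw [List.all_eq_true] at h
  have h' := List.all_eq_true.1 (h r (List.mem_range.2 hr)) s (List.mem_range.2 hs)
  simp only [beq_false_of_ne h1, beq_false_of_ne h2, Bool.false_or, commB2] at h'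
  refine Units.ext ?_
  rw [ChevalleyDatum.commWord]
  split at h'
  · next e =>
    rw [e, List.map_nil, List.map_nil, List.prod_nil, mul_one, Units.val_mul, Units.val_mul, xG_val hr,
      xG_val hs]
    have hc : op F r * op F s = op F s * op F r := by rw [op, op, ← sv_mul, ← sv_mul, sv_eq h']
    simp only [xM, add_mul, mul_add, one_mul, mul_one, smul_mul_assoc, mul_smul_comm, hc]
    module
  · next p c e =>
    simp only [Bool.and_eq_true, decide_eq_true_eq] at h'
    obtain ⟨⟨⟨hp, hc⟩, hz1⟩, hz2⟩ := h'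
    rw [e]
    simp only [List.map_cons, List.map_nil, List.prod_cons, List.prod_nil, mul_one, pow_one, Units.val_mul,
      xG_val hr, xG_val hs, xG_val hp]
    have hc' : op F r * op F s = op F s * op F r + (c : F) • op F p := by
      rw [op, op, op, ← sv_mul, ← sv_mul, sv_eq hc, sv_append, sv_scale]
    have z1 : op F r * op F p = 0 := by rw [op, op, ← sv_mul, sv_eq hz1, sv_nil]
    have z2 : op F s * op F p = 0 := by rw [op, op, ← sv_mul, sv_eq hz2, sv_nil]
    have z3 : op F r * op F s * op F p = 0 := by rw [mul_assoc, z2, mul_zero]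
    simp only [xM, add_mul, mul_add, one_mul, mul_one, smul_mul_assoc, mul_smul_comm, z1, z2, z3, smul_zero,
      add_zero]
    simp only [hc', smul_add]
    module
  · simp at h'

/-- The product defining a torus element. -/
noncomputable def hG (r : ℕ) (t : F) : GL I27 F :=
  xG r t * xG (chevE6.neg r) (-t⁻¹) * xG r t * (xG r (-1) * xG (chevE6.neg r) 1 * xG r (-1))

theorem hG_val {r : ℕ} (hr : r < 72) {t : F} (ht : t ≠ 0) :
    ((hG r t : GL I27 F) : Matrix I27 I27 F) = 1 + (t - 1) • (op F r * op F (chevE6.neg r)) +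
      (t⁻¹ - 1) • (op F (chevE6.neg r) * op F r) := by
  have hn := (pairs_ok ⟨r, hr⟩).2.2
  simp only at hn
  have a0 := op_sq (F := F) hr
  have b0 := op_sq (F := F) hn
  have a3 := op_triple (F := F) hr
  have b3 := op_triple' (F := F) hr
  simp only [hG, Units.val_mul, xG_val hr, xG_val hn, xM]
  generalize op F r = A at a0 a3 b3 ⊢
  generalize op F (chevE6.neg r) = B at b0 a3 b3 ⊢
  have hn1 : ∀ s : F, s ≠ 0 → (1 + s • A) * (1 + (-s⁻¹) • B) * (1 + s • A) =
      1 - A * B - B * A + s • A - s⁻¹ • B := fun s hs => by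
    simp only [add_mul, mul_add, one_mul, mul_one, smul_mul_assoc, mul_smul_comm, a0, a3, smul_zero,
      add_zero]
    match_scalars <;> field_simp <;> ring
  rw [hn1 t ht, show (1 + (-1 : F) • A) * (1 + (1 : F) • B) * (1 + (-1 : F) • A) =
    (1 + (-1 : F) • A) * (1 + (-(-1 : F)⁻¹) • B) * (1 + (-1 : F) • A) by norm_num, hn1 (-1) (by norm_num),
    inv_neg, inv_one]
  set Q := 1 - A * B - B * A with hQ
  have qA : Q * A = 0 := by rw [hQ, sub_mul, sub_mul, one_mul, a3, mul_assoc B, a0, mul_zero]; simp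
  have Aq : A * Q = 0 := by
    rw [hQ, mul_sub, mul_sub, mul_one, ← mul_assoc, a0, zero_mul, ← mul_assoc, a3]; simp
  have qB : Q * B = 0 := by rw [hQ, sub_mul, sub_mul, one_mul, b3, mul_assoc A, b0, mul_zero]; simp
  have Bq : B * Q = 0 := by
    rw [hQ, mul_sub, mul_sub, mul_one, ← mul_assoc, b3, ← mul_assoc, b0, zero_mul]; simp
  have qq : Q * Q = Q := by
    nth_rw 2 [hQ]
    rw [mul_sub, mul_sub, mul_one, ← mul_assoc, qA, zero_mul, ← mul_assoc, qB, zero_mul]
    simp
  have main : (Q + t • A - t⁻¹ • B) * (Q + (-1 : F) • A - (-1 : F) • B) =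
      Q + t • (A * B) + t⁻¹ • (B * A) := by
    simp only [add_mul, mul_add, sub_mul, mul_sub, smul_mul_assoc, mul_smul_comm, qA, Aq, qB, Bq, qq, a0,
      b0, smul_zero]
    module
  rw [main, hQ]
  module

theorem hG_mul {r : ℕ} (hr : r < 72) {t u : F} (ht : t ≠ 0) (hu : u ≠ 0) :
    hG r t * hG r u = hG r (t * u) := by
  refine Units.ext ?_
  rw [Units.val_mul, hG_val hr ht, hG_val hr hu, hG_val hr (mul_ne_zero ht hu)]
  have hn := (pairs_ok ⟨r, hr⟩).2.2
  simp only at hn
  have a0 := op_sq (F := F) hr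
  have b0 := op_sq (F := F) hn
  have a3 := op_triple (F := F) hr
  have b3 := op_triple' (F := F) hr
  generalize op F r = A at a0 a3 b3 ⊢
  generalize op F (chevE6.neg r) = B at b0 a3 b3 ⊢
  have p1 : A * B * (A * B) = A * B := by rw [← mul_assoc, a3]
  have p2 : B * A * (B * A) = B * A := by rw [← mul_assoc, b3]
  have p3 : A * B * (B * A) = 0 := by rw [mul_assoc, ← mul_assoc B B A, b0, zero_mul, mul_zero]
  have p4 : B * A * (A * B) = 0 := by rw [mul_assoc, ← mul_assoc A A B, a0, zero_mul, mul_zero]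
  simp only [add_mul, mul_add, one_mul, mul_one, smul_mul_assoc, mul_smul_comm, p1, p2, p3, p4, smul_zero,
    add_zero, zero_add, smul_smul, mul_inv]
  module

/-- The homomorphism from the presented group. -/
theorem exists_phi27 : ∃ φ : chevE6.SteinbergGroup F →* GL I27 F,
    ∀ (r : ℕ) (t : F), r < 72 → φ (chevE6.stGen F r t) = xG r t := by
  have hF := DataE6.facts
  set f := FreeGroup.lift (fun p : Fin chevE6.nroots × F => xG p.1.val p.2) with hf
  have hX : ∀ (r : ℕ) (t : F), r < 72 → f (chevE6.stX r t) = xG r t := fun r t hr => by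
    simp [hf, ChevalleyDatum.stX, show r < chevE6.nroots from hr]
  have hW : ∀ w : List (ℕ × F), (∀ p ∈ w, p.1 < 72) →
      f (chevE6.stWord w) = (w.map fun p => xG p.1 p.2).prod := fun w hw => by
    rw [ChevalleyDatum.stWord, map_list_prod, List.map_map]
    exact congrArg List.prod (List.map_congr_left fun p hp => hX p.1 p.2 (hw p hp))
  have hH : ∀ (r : ℕ) (t : F), r < 72 → f (chevE6.stH r t) = hG r t := by
    intro r t hr
    rw [ChevalleyDatum.stH, hW]
    · simp [ChevalleyDatum.hWord, ChevalleyDatum.nWord, hG, mul_assoc]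
    · intro p hp
      simp only [ChevalleyDatum.hWord, ChevalleyDatum.nWord, List.mem_append, List.mem_cons,
        List.not_mem_nil, or_false] at hp
      rcases hp with (rfl | rfl | rfl) | (rfl | rfl | rfl)
      all_goals first | exact hr | exact (pairs_ok ⟨r, hr⟩).2.2
  have hrel : ∀ g ∈ chevE6.steinbergRels F, f g = 1 := by
    rintro g ((⟨r, t, u, hr, rfl⟩ | ⟨r, s, t, u, hr, hs, h1, h2, rfl⟩) | ⟨r, t, u, hr, ht, hu, rfl⟩)
    · rw [map_mul, map_mul, map_inv, hX r t hr, hX r u hr, hX r _ hr, xG_add hr, mul_inv_cancel]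
    · have hw : ∀ p ∈ chevE6.commWord F r s t u, p.1 < 72 := fun p hp => by
        obtain ⟨c, hc, rfl⟩ := List.mem_map.1 hp
        exact (hF.commTerms_wt hF.isWeight_omega hr hs hc).1
      simp only [map_mul, map_inv, hX _ _ hr, hX _ _ hs, hW _ hw]
      rw [mul_inv_eq_one, mul_assoc _ (xG s u), xG_comm hr hs h1 h2]
      group
    · rw [map_mul, map_mul, map_inv, hH r t hr, hH r u hr, hH r _ hr, mul_inv_eq_one, hG_mul hr ht hu]
  exact ⟨PresentedGroup.toGroup hrel, fun r t hr => hX r t hr⟩

end CfsgLib.Known.E6Cubic
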